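import Cfsg.Agent.H28.SmallOrders.Range.Helpers

/-!
# Excluded orders, part B
-/

set_option autoImplicit false
set_option synthInstance.maxSize 1024

namespace Cfsg.Agent.H28.Range6232

open Subgroup MulAction

variable {G : Type*} [Group G] [Finite G] [IsSimpleGroup G]

omit [IsSimpleGroup G] in
/-- Two Sylow subgroups for the same prime have normalizers of equal order. -/
theorem card_normalizer_eq {p : ℕ} [Fact p.Prime] (P S : Sylow p G) :
    Nat.card (normalizer ((S : Subgroup G) : Set G)) =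
      Nat.card (normalizer ((P : Subgroup G) : Set G)) := by
  have h3 := H30.card_sylow_mul_normalizer p S
  rw [← H30.card_sylow_mul_normalizer p P] at h3
  exact Nat.eq_of_mul_eq_mul_left Nat.card_pos h3

/-- If no centralizer of a Sylow subgroup of prime order `p` has order divisible by `q`, an element
of order `q` has centralizer of order prime to `p`. -/
theorem not_dvd_centralizer (hG : ¬ IsMulCommutative G) {p q m : ℕ} [hp : Fact p.Prime]
    (hp2 : p ≠ 2) (hcard : Nat.card G = p * m) (hm : ¬ p ∣ m) {u : G} (hu : orderOf u = q)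
    (hopt : ∀ P : Sylow p G, ¬ q ∣ Nat.card (centralizer ((P : Subgroup G) : Set G))) :
    ¬ p ∣ Nat.card (centralizer ({u} : Set G)) := by
  intro hd
  obtain ⟨S, z, hS, -, hzS, hz⟩ := exists_sylow_le
    (fun P => (prime_options hG p m hp2 hcard hm P).1) (centralizer ({u} : Set G)) hd
  refine hopt S ?_
  have huS : u ∈ centralizer ((S : Subgroup G) : Set G) := by
    rw [mem_centralizer_iff]
    exact fun y hy => mem_centralizer_singleton_iff.mp (hS hy)
  have := orderOf_dvd_natCard (⟨u, huS⟩ : centralizer ((S : Subgroup G) : Set G))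
  rwa [orderOf_mk, hu] at this

theorem not_3960 (hG : ¬ IsMulCommutative G) (h : Nat.card G = 3960) : False := by
  have : Fact (Nat.Prime 11) := ⟨by norm_num⟩
  have : Fact (Nat.Prime 5) := ⟨by norm_num⟩
  have : Fact (Nat.Prime 3) := ⟨by norm_num⟩
  have : Fact (Nat.Prime 2) := ⟨Nat.prime_two⟩
  set P : Sylow 11 G := default
  obtain ⟨hP, n, e, K, hm, -, -, -, -, -, -, -, -, hC, hN, -, -⟩ :=
    prime_options hG 11 360 (by norm_num) (by rw [h]) (by norm_num) P
  have h1 : ∀ t ∈ primeOpts 11 360, t.2.1 = 2 ∧ t.2.2 = 4 := by decide +kernel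
  obtain ⟨he, hK⟩ := h1 _ hm
  simp only at he hK
  subst he; subst hK
  replace hC : Nat.card (centralizer ((P : Subgroup G) : Set G)) = 44 := hC
  replace hN : Nat.card (normalizer ((P : Subgroup G) : Set G)) = 88 := hN
  obtain ⟨x, u, hx, -, hu, hc, -⟩ := exists_commuting (q := 2) P hP (by rw [hC]; norm_num)
  set Q : Sylow 5 G := default
  obtain ⟨hQ, n', e', K', hm', -, -, -, -, -, -, -, -, hC', hN', -, -⟩ :=
    prime_options hG 5 792 (by norm_num) (by rw [h]) (by norm_num) Q
  have h2 : ∀ t ∈ primeOpts 5 792, t.2.2 % 3 = 0 ∧ t.2.1 * t.2.2 = 12 ∨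
      t.2.1 = 2 ∧ t.2.2 = 1 := by decide +kernel
  rcases h2 _ hm' with ⟨hK3, hek⟩ | ⟨he2, hK1⟩
  · simp only at hK3 hek
    obtain ⟨y, hy, hdvd⟩ := H30.exists_centralizer_dvd 5 3 440 (by norm_num) Q hQ
      (by rw [h]; norm_num) (by norm_num) (by rw [hC']; omega)
    norm_num at hdvd
    obtain ⟨S, z, hS, -, -, -⟩ := exists_sylow_le (fun P => (prime_options hG 5 792 (by norm_num)
      (by rw [h]) (by norm_num) P).1) (centralizer ({y} : Set G))
      ((show 5 ∣ 45 by norm_num).trans hdvd)
    obtain ⟨k, t, hk, -, hk5, hHkt, ht, ht5⟩ := sylow_count_one S _ hS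
    rw [card_normalizer_eq Q S, hN', hek] at ht
    rw [show Nat.card (S : Subgroup G) = 5 from (prime_options hG 5 792 (by norm_num)
      (by rw [h]) (by norm_num) S).1] at ht5
    have hmem := mem_subOpts hG h _ (centralizer_ne_top hG hy) hdvd
    have h5 : ∀ c ∈ subOpts 3960 45, (c.1 % 11 ≠ 0 ∧
          (List.range c.2).all (fun f => f % 4 != c.2 % 4 || f % 11 != 0) = true) ∨
        ∀ t < 61, t ∣ 60 → 5 ∣ t → c.1 % t = 0 → (c.1 / t) % 5 = 1 →
          c.1 = 90 ∧ (c.1 / t) % 2 = 0 := by decide +kernel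
    rcases h5 _ hmem with ⟨h11, hall⟩ | hall
    · exact no_involution hG hx hu hc _ (centralizer_ne_top hG hy)
        (fun hh => h11 (Nat.mod_eq_zero_of_dvd hh)) _ rfl hall
    · simp only at hall
      have htp : 0 < t := Nat.pos_of_dvd_of_pos ht (by norm_num)
      have hdiv : Nat.card (centralizer ({y} : Set G)) / t = k := by
        rw [hHkt, Nat.mul_div_cancel _ htp]
      have h6 := hall t (by have := Nat.le_of_dvd (by norm_num) ht; omega) ht ht5
        (by rw [hHkt]; exact Nat.mul_mod_left _ _) (by rw [hdiv]; exact hk5)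
      rw [hdiv] at h6
      exact odd_card_sylow (p := 5) (X := centralizer ({y} : Set G)) (m := 45) (by norm_num)
        (by rw [h6.1]) (by norm_num) (hk ▸ Nat.dvd_of_mod_eq_zero h6.2)
  · simp only at he2 hK1
    obtain ⟨v, hv, hv88⟩ : ∃ v : G, orderOf v = 2 ∧ 88 ∣ Nat.card (centralizer ({v} : Set G)) := by
      set C := centralizer ((P : Subgroup G) : Set G)
      set N := normalizer ((P : Subgroup G) : Set G)
      have hCN : C ≤ N := centralizer_le_normalizer _
      have : (C.subgroupOf N).Normal := by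
        have hk : ((P : Subgroup G).normalizerMonoidHom).ker = C.subgroupOf N :=
          (P : Subgroup G).normalizerMonoidHom_ker
        rw [← hk]
        infer_instance
      let T : Sylow 2 N := default
      have hT : Nat.card (T : Subgroup N) = 8 := by
        simpa using H30.card_sylow_subgroup (a := 3) (m := 11) T (by rw [hN]; norm_num) (by norm_num)
      have hne : (C.subgroupOf N).subgroupOf (T : Subgroup N) ≠ ⊥ := by
        intro hbot
        have hd := (C.subgroupOf N).relIndex_dvd_index_of_normal (K := (T : Subgroup N))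
        rw [relIndex, hbot, index_bot, hT] at hd
        have h3 := (C.subgroupOf N).index_mul_card
        rw [Nat.card_congr (subgroupOfEquivOfLe hCN).toEquiv, hC, hN] at h3
        have : (C.subgroupOf N).index = 2 := by omega
        rw [this] at hd
        exact absurd (Nat.le_of_dvd two_pos hd) (by norm_num)
      have hmeet := H24.inf_center_ne_bot T.2 hne
      set M := (C.subgroupOf N).subgroupOf (T : Subgroup N) ⊓ center (T : Subgroup N) with hM
      have h2M : 2 ∣ Nat.card M := by
        rcases (T.2.to_subgroup M).card_eq_or_dvd with h | h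
        · exact absurd (eq_bot_of_card_eq M h) hmeet
        · exact h
      obtain ⟨v, hv⟩ := exists_prime_orderOf_dvd_card' 2 h2M
      rw [← orderOf_coe, ← orderOf_coe, ← orderOf_coe] at hv
      refine ⟨_, hv, ?_⟩
      have h11 : 11 ∣ Nat.card (centralizer ({((v : (T : Subgroup N)) : N).1} : Set G)) := by
        refine (dvd_of_eq hP.symm).trans (card_dvd_of_le fun y hy => ?_)
        rw [mem_centralizer_singleton_iff]
        exact mem_centralizer_iff.mp v.2.1 y hy
      have h8 : 8 ∣ Nat.card (centralizer ({((v : (T : Subgroup N)) : N).1} : Set G)) := by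
        have hle : (T : Subgroup N).map N.subtype ≤
            centralizer ({((v : (T : Subgroup N)) : N).1} : Set G) := by
          rintro y ⟨y', hy', rfl⟩
          rw [mem_centralizer_singleton_iff]
          have := congrArg (fun z : (T : Subgroup N) => ((z : N) : G))
            (mem_center_iff.mp v.2.2 ⟨y', hy'⟩)
          simpa using this
        refine (dvd_of_eq ?_).trans (card_dvd_of_le hle)
        rw [← Nat.card_congr (equivMapOfInjective _ _ N.subtype_injective).toEquiv, hT]
      exact Nat.Coprime.mul_dvd_of_dvd_of_dvd (by norm_num : Nat.Coprime 8 11) h8 h11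
    obtain ⟨X, hx2, hxp, hxd, hDd, hD2, hsq, hinv⟩ := equation_data hG (by norm_num) h Q hQ
      (by rw [hC', hK1]) (by rw [hN', hK1, he2])
    norm_num at hsq
    obtain ⟨A, L, hA, heq⟩ := hinv v hv
    obtain ⟨j, hj⟩ := hv88
    rw [hj] at heq
    push_cast at heq
    have hxle : X.natAbs < 63 := by
      by_contra hc
      have h64 : (63 : ℤ) ^ 2 ≤ ((X.natAbs : ℕ) : ℤ) ^ 2 :=
        pow_le_pow_left₀ (by norm_num) (by exact_mod_cast (by omega : 63 ≤ X.natAbs)) 2
      rw [Int.natAbs_sq] at h64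
      nlinarith [sq_nonneg (1 - X)]
    have hx : X = 4 ∨ X = 9 ∨ X = -11 := by
      have hall1 : ∀ a < 63, a ∣ 3960 → 2 ≤ a → a % 5 = 4 → a - 1 ∣ 3960 →
          a * a + 2 * ((a - 1) * (a - 1)) < 3960 → a = 4 ∨ a = 9 := by decide +kernel
      have hall2 : ∀ a < 63, a ∣ 3960 → 2 ≤ a → a % 5 = 1 → a + 1 ∣ 3960 →
          a * a + 2 * ((a + 1) * (a + 1)) < 3960 → a = 11 := by decide +kernel
      rcases le_or_gt 0 X with hx0 | hx0
      · rw [show (1 - X).natAbs = X.natAbs - 1 by omega] at hDd
        have := hall1 X.natAbs hxle hxd hx2 (by omega) hDd (by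
          zify [show 1 ≤ X.natAbs by omega]
          rw [abs_of_nonneg hx0]
          nlinarith)
        omega
      · rw [show (1 - X).natAbs = X.natAbs + 1 by omega] at hDd
        have := hall2 X.natAbs hxle hxd hx2 (by omega) hDd (by
          zify
          rw [abs_of_neg hx0]
          nlinarith)
        omega
    have hdvd : 7744 * (X * (X - 1)) ∣ 3960 * (X - A) ^ 2 :=
      ⟨(L : ℤ) * (j : ℤ) ^ 2, by rw [heq]; ring⟩
    have h7 : ∀ X ∈ [(4 : ℤ), 9, -11], ∀ i < 2 * X.natAbs - 1,
        (3960 * (X - ((i : ℕ) - (X.natAbs : ℤ) + 1)) ^ 2) % (7744 * (X * (X - 1))) ≠ 0 := by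
      decide +kernel
    obtain ⟨hA1, hA2⟩ := abs_lt.mp hA
    have hXm : X ∈ [(4 : ℤ), 9, -11] := by simpa using hx
    rw [Int.abs_eq_natAbs] at hA1 hA2
    refine h7 X hXm (A + X.natAbs - 1).toNat (by omega) ?_
    rw [Int.toNat_of_nonneg (by omega), show A + (X.natAbs : ℤ) - 1 - X.natAbs + 1 = A by ring]
    exact Int.emod_eq_zero_of_dvd hdvd

theorem not_4400 (hG : ¬ IsMulCommutative G) (h : Nat.card G = 4400) : False := by
  have : Fact (Nat.Prime 11) := ⟨by norm_num⟩
  have : Fact (Nat.Prime 5) := ⟨by norm_num⟩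
  have : Fact (Nat.Prime 2) := ⟨Nat.prime_two⟩
  set P : Sylow 11 G := default
  obtain ⟨hP, n, e, K, hm, -, -, -, -, -, -, -, -, hC, -, -, -⟩ :=
    prime_options hG 11 400 (by norm_num) (by rw [h]) (by norm_num) P
  have h1 : ∀ t ∈ primeOpts 11 400, t.2.2 = 2 := by decide +kernel
  have hK : K = 2 := h1 _ hm
  subst hK
  obtain ⟨x, u, hx, -, hu, hc, -⟩ := exists_commuting (q := 2) P hP (by rw [hC]; norm_num)
  have hcard : Nat.card G = 5 ^ 2 * 176 := by rw [h]; norm_num
  have h2 : ∀ s ∈ sylowOpts 5 (5 ^ 2 * 176) 176, s = 176 ∨ s % 5 ^ 2 ≠ 1 := by decide +kernel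
  rcases h2 _ (sylow_options hG 5 2 176 hcard (by norm_num) (by norm_num)) with hn | hn
  · refine normalizer_card_ne hG (default : Sylow 5 G)
      (H30.card_sylow_subgroup _ hcard (by norm_num)) ?_
    have := H30.card_sylow_mul_normalizer 5 (default : Sylow 5 G)
    rw [hn, h] at this
    exact (Nat.eq_of_mul_eq_mul_left (by norm_num : 0 < 176) (this.trans (by norm_num : 4400 = 176 * 5 ^ 2)))
  · obtain ⟨d, Q, R, hd, hdQ, -, hne, -, hQ, hQH, hRH⟩ := exists_common_element hcard (by norm_num) hn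
    obtain ⟨k, hk, hk5, hk1, -, hdvd⟩ := sylow_count_two Q R hne _ hQH hRH
    have hd1 : d ≠ 1 := fun hh => by rw [hh, orderOf_one] at hd; omega
    rw [hQ] at hdvd
    have h11 : ¬ 11 ∣ Nat.card (centralizer ({d} : Set G)) := by
      refine not_dvd_centralizer hG (m := 400) (by norm_num) (by rw [h]) (by norm_num) hd fun S => ?_
      obtain ⟨-, n', e', K', hm', -, -, -, -, -, -, -, -, hC', -, -, -⟩ :=
        prime_options hG 11 400 (by norm_num) (by rw [h]) (by norm_num) S
      have : K' = 2 := h1 _ hm'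
      rw [hC', this]
      norm_num
    have hmem := mem_subOpts hG h _ (centralizer_ne_top hG hd1) ((dvd_mul_left (5 ^ 2) k).trans hdvd)
    have h3 : ∀ c ∈ subOpts 4400 (5 ^ 2), ∀ k < 177, k % 5 = 1 → 1 < k → k * 5 ^ 2 ∣ c.1 →
        c.1 % 11 = 0 ∨ (List.range c.2).all (fun f => f % 4 != c.2 % 4 || f % 11 != 0) = true := by
      decide +kernel
    have hkm : k < 177 := by
      have := Nat.le_of_dvd (by norm_num) (hdvd.trans (h ▸ card_subgroup_dvd_card _))
      omega
    rcases h3 _ hmem k hkm hk5 hk1 hdvd with h4 | h4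
    · exact h11 (Nat.dvd_of_mod_eq_zero h4)
    · exact no_involution hG hx hu hc _ (centralizer_ne_top hG hd1) h11 _ rfl h4

theorem not_4620 (hG : ¬ IsMulCommutative G) (h : Nat.card G = 4620) : False := by
  have : Fact (Nat.Prime 11) := ⟨by norm_num⟩
  have : Fact (Nat.Prime 7) := ⟨by norm_num⟩
  have : Fact (Nat.Prime 5) := ⟨by norm_num⟩
  have : Fact (Nat.Prime 3) := ⟨by norm_num⟩
  have : Fact (Nat.Prime 2) := ⟨Nat.prime_two⟩
  have h7C : ∀ S : Sylow 7 G, Nat.card (S : Subgroup G) = 7 ∧
      Nat.card (centralizer ((S : Subgroup G) : Set G)) = 7 := fun S => by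
    obtain ⟨hS, n, e, K, hm, -, -, -, -, -, -, -, -, hC, -, -, -⟩ :=
      prime_options hG 7 660 (by norm_num) (by rw [h]) (by norm_num) S
    have h1 : ∀ t ∈ primeOpts 7 660, t.2.2 = 1 := by decide +kernel
    exact ⟨hS, by rw [hC, show K = 1 from h1 _ hm]⟩
  have h11C : ∀ S : Sylow 11 G, Nat.card (S : Subgroup G) = 11 ∧
      Nat.card (centralizer ((S : Subgroup G) : Set G)) = 11 := fun S => by
    obtain ⟨hS, n, e, K, hm, -, -, -, -, -, -, -, -, hC, -, -, -⟩ :=
      prime_options hG 11 420 (by norm_num) (by rw [h]) (by norm_num) S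
    have h1 : ∀ t ∈ primeOpts 11 420, t.2.2 = 1 := by decide +kernel
    exact ⟨hS, by rw [hC, show K = 1 from h1 _ hm]⟩
  have h5C : ∀ S : Sylow 5 G, Nat.card (S : Subgroup G) = 5 ∧
      Nat.card (centralizer ((S : Subgroup G) : Set G)) = 10 := fun S => by
    obtain ⟨hS, n, e, K, hm, hd⟩ :=
      prime_options hG 5 924 (by norm_num) (by rw [h]) (by norm_num) S
    have h1 : ∀ t ∈ primeOpts 5 924, t.2.2 % 7 = 0 ∨ t.2.1 % 4 = 0 ∨ t.2.2 = 2 := by decide +kernel
    obtain ⟨-, -, -, -, -, -, -, -, hC, -, -, -⟩ := id hd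
    refine ⟨hS, ?_⟩
    rcases h1 _ hm with h7 | h4 | hK
    · exfalso
      replace h7 : K % 7 = 0 := h7
      have := dual_dvd S (default : Sylow 7 G) hS (h7C _).1 (by rw [hC]; omega)
      rw [(h7C _).2] at this
      norm_num at this
    · exact absurd (Nat.dvd_of_mod_eq_zero h4)
        (automizer_ne_four hG (by rw [h]; norm_num) (by rw [h]; norm_num) S hS hd)
    · rw [hC, show K = 2 from hK]
  have h3C : ∀ S : Sylow 3 G, Nat.card (S : Subgroup G) = 3 ∧
      Nat.card (centralizer ((S : Subgroup G) : Set G)) = 6 := fun S => by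
    obtain ⟨hS, n, e, K, hm, -, -, -, -, -, -, -, -, hC, -, -, -⟩ :=
      prime_options hG 3 1540 (by norm_num) (by rw [h]) (by norm_num) S
    have h1 : ∀ t ∈ primeOpts 3 1540,
        t.2.2 % 7 = 0 ∨ t.2.2 % 11 = 0 ∨ t.2.2 % 5 = 0 ∨ t.2.2 = 2 := by decide +kernel
    refine ⟨hS, ?_⟩
    rcases h1 _ hm with h' | h' | h' | hK
    · exfalso
      replace h' : K % 7 = 0 := h'
      have := dual_dvd S (default : Sylow 7 G) hS (h7C _).1 (by rw [hC]; omega)
      rw [(h7C _).2] at this
      norm_num at this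
    · exfalso
      replace h' : K % 11 = 0 := h'
      have := dual_dvd S (default : Sylow 11 G) hS (h11C _).1 (by rw [hC]; omega)
      rw [(h11C _).2] at this
      norm_num at this
    · exfalso
      replace h' : K % 5 = 0 := h'
      have := dual_dvd S (default : Sylow 5 G) hS (h5C _).1 (by rw [hC]; omega)
      rw [(h5C _).2] at this
      norm_num at this
    · rw [hC, show K = 2 from hK]
  -- one class of involutions
  have h4 : 4 ∣ Nat.card G := by rw [h]; norm_num
  have h8 : ¬ 8 ∣ Nat.card G := by rw [h]; norm_num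
  let T : Sylow 2 G := default
  have hTK := (S0992.result hG (by rw [h]; decide) h8 T).1
  have hconj : ∀ s t : G, orderOf s = 2 → orderOf t = 2 → IsConj s t := by
    rcases klein_sylow_dichotomy T hTK with ⟨hc, -⟩ | ⟨-, N, hN, hcomp⟩
    · exact hc
    · exfalso
      have hmul := hcomp.card_mul
      rw [hTK.card_four, h] at hmul
      rcases IsSimpleGroup.eq_bot_or_eq_top_of_normal N hN with rfl | rfl
      · rw [card_bot] at hmul; omega
      · rw [card_top, h] at hmul; omega
  obtain ⟨u, hu, -⟩ := H30.exists_central_involution (G := G) (a := 2) (m := 1155)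
    (by rw [h]; norm_num) (by norm_num) (by norm_num)
  set X := centralizer ({u} : Set G) with hX
  have key : ∀ {p : ℕ} [Fact p.Prime] (P : Sylow p G), Nat.card (P : Subgroup G) = p →
      2 ∣ Nat.card (centralizer ((P : Subgroup G) : Set G)) → p ∣ Nat.card X := by
    intro p _ P hP h2
    obtain ⟨x, v, hx, -, hv, hc, -⟩ := exists_commuting (q := 2) P hP h2
    obtain ⟨g, hg⟩ := isConj_iff.mp (hconj v u hv hu)
    have hmem : g * x * g⁻¹ ∈ X := by
      rw [hX, mem_centralizer_singleton_iff, ← hg]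
      exact (Commute.conj_iff g).mpr hc
    have := orderOf_dvd_natCard (⟨_, hmem⟩ : X)
    rw [orderOf_mk] at this
    have ho : orderOf (g * x * g⁻¹) = p := by
      rw [← hx]
      have := orderOf_injective (MulAut.conj g).toMonoidHom (MulAut.conj g).injective x
      simpa [MulAut.conj_apply] using this
    rwa [ho] at this
  have h5X := key (default : Sylow 5 G) (h5C _).1 (by rw [(h5C _).2]; norm_num)
  have h3X := key (default : Sylow 3 G) (h3C _).1 (by rw [(h3C _).2]; norm_num)
  have h7X : ¬ 7 ∣ Nat.card X := not_dvd_centralizer hG (m := 660) (by norm_num) (by rw [h])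
    (by norm_num) hu fun S => by rw [(h7C S).2]; norm_num
  have h11X : ¬ 11 ∣ Nat.card X := not_dvd_centralizer hG (m := 420) (by norm_num) (by rw [h])
    (by norm_num) hu fun S => by rw [(h11C S).2]; norm_num
  let _ : Fintype G := Fintype.ofFinite G
  have h4X := SmallOrders.four_dvd_card_centralizer_involution h4 hu
  have hX60 : Nat.card X = 60 := by
    have hd : Nat.card X ∣ 4620 := h ▸ card_subgroup_dvd_card X
    have hall : ∀ c ∈ divs 4620, c % 4 = 0 → c % 3 = 0 → c % 5 = 0 → c % 7 ≠ 0 → c % 11 ≠ 0 →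
        c = 60 := by decide +kernel
    exact hall _ (mem_divs (Nat.mem_divisors.mpr ⟨hd, by norm_num⟩))
      (Nat.mod_eq_zero_of_dvd h4X) (Nat.mod_eq_zero_of_dvd h3X) (Nat.mod_eq_zero_of_dvd h5X)
      (fun hh => h7X (Nat.dvd_of_mod_eq_zero hh)) (fun hh => h11X (Nat.dvd_of_mod_eq_zero hh))
  -- the normal complement of order 15
  let U : Sylow 2 X := default
  have hU : Nat.card (U : Subgroup X) = 4 := by
    simpa using H30.card_sylow_subgroup (a := 2) (m := 15) U (by rw [hX60]; norm_num) (by norm_num)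
  have hUK : IsKleinFour (U : Subgroup X) := by
    refine ⟨hU, Nat.dvd_antisymm (Monoid.exponent_dvd_of_forall_pow_eq_one fun y => ?_) ?_⟩
    · obtain ⟨i, hi, hy⟩ := (Nat.dvd_prime_pow Nat.prime_two).mp
        (show orderOf y ∣ 2 ^ 2 by rw [show 2 ^ 2 = 4 from rfl, ← hU]; exact orderOf_dvd_natCard y)
      rw [← orderOf_dvd_iff_pow_eq_one, hy]
      interval_cases i <;> norm_num
      refine orderOf_ne_four hG h4 h8 ((y : X) : G) (dvd_of_eq ?_)
      rw [orderOf_coe, orderOf_coe, hy]
      norm_num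
    · obtain ⟨y, hy⟩ := exists_prime_orderOf_dvd_card' (G := (U : Subgroup X)) 2
        (by rw [hU]; norm_num)
      exact (dvd_of_eq hy.symm).trans (Monoid.order_dvd_exponent y)
  let uX : X := ⟨u, mem_centralizer_singleton_iff.mpr rfl⟩
  have huX : orderOf uX = 2 := by rw [orderOf_mk, hu]
  rcases klein_sylow_dichotomy U hUK with ⟨hc, -⟩ | ⟨-, N, hN, hcomp⟩
  · obtain ⟨v, hv, hne⟩ : ∃ v : X, orderOf v = 2 ∧ v ≠ uX := by
      by_contra hne
      push Not at hne
      have hsub : ∀ y : (U : Subgroup X), y = 1 ∨ (y : X) = uX := fun y => by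
        rcases (Nat.dvd_prime Nat.prime_two).mp (hUK.exponent_two ▸ Monoid.order_dvd_exponent y)
          with h1 | h1
        · exact Or.inl (orderOf_eq_one_iff.mp h1)
        · exact Or.inr (hne _ (by rw [orderOf_coe, h1]))
      have hle : (U : Subgroup X) ≤ zpowers uX := fun y hy => by
        rcases hsub ⟨y, hy⟩ with h1 | h1
        · exact (show y = 1 from congrArg Subtype.val h1) ▸ one_mem _
        · exact (show y = uX from h1) ▸ mem_zpowers uX
      have := card_le_of_le hle
      rw [hU, Nat.card_zpowers, huX] at this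
      omega
    obtain ⟨g, hg⟩ := isConj_iff.mp (hc uX v huX hv)
    refine hne ?_
    rw [← hg]
    apply Subtype.ext
    have hgu : (g : G) * u = u * g := mem_centralizer_singleton_iff.mp g.2
    show (g : G) * u * (g : G)⁻¹ = u
    rw [hgu, mul_inv_cancel_right]
  · have hmul := hcomp.card_mul
    rw [hU, hX60] at hmul
    have hN15 : Nat.card N = 15 := by omega
    let S : Sylow 5 X := default
    have hS : Nat.card (S : Subgroup X) = 5 := by
      simpa using H30.card_sylow_subgroup (a := 1) (m := 12) S (by rw [hX60]; norm_num) (by norm_num)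
    have hSN : (S : Subgroup X) ≤ N := by
      intro y hy
      by_contra hyN
      have hcop : Nat.Coprime (orderOf y) N.index := by
        have hi := N.index_mul_card
        rw [hX60, hN15] at hi
        rw [show N.index = 4 by omega]
        exact Nat.Coprime.coprime_dvd_left (orderOf_mk y hy ▸ hS ▸ orderOf_dvd_natCard
          (⟨y, hy⟩ : (S : Subgroup X))) (by norm_num)
      have h1 : orderOf (QuotientGroup.mk' N y) ∣ Nat.gcd (orderOf y) N.index :=
        Nat.dvd_gcd (orderOf_map_dvd _ _) (by rw [index_eq_card]; exact orderOf_dvd_natCard _)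
      rw [hcop] at h1
      exact hyN ((QuotientGroup.eq_one_iff y).mp (orderOf_eq_one_iff.mp (Nat.dvd_one.mp h1)))
    have hd := card_sylow_dvd_normal S N hSN
    rw [hN15] at hd
    have hmod : Nat.card (Sylow 5 X) % 5 = 1 := by
      have := card_sylow_modEq_one 5 X
      rwa [Nat.ModEq, Nat.mod_eq_of_lt (by norm_num : 1 < 5)] at this
    have hone : Nat.card (Sylow 5 X) = 1 := by
      have hall : ∀ c < 16, c ∣ 15 → c % 5 = 1 → c = 1 := by decide
      exact hall _ (Nat.lt_succ_of_le (Nat.le_of_dvd (by norm_num) hd)) hd hmod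
    have := (Nat.card_eq_one_iff_unique.mp hone).1
    have hSn : (S : Subgroup X).Normal := Sylow.normal_of_subsingleton S
    -- an element of order three centralises it
    obtain ⟨y, hy⟩ := exists_prime_orderOf_dvd_card' (G := X) 3 h3X
    have hyS : ∀ s ∈ (S : Subgroup X), Commute y s := by
      have : IsCyclic (S : Subgroup X) := isCyclic_of_prime_card hS
      let φ : X →* MulAut (S : Subgroup X) := MulAut.conjNormal
      have hd : orderOf (φ y) ∣ Nat.gcd 3 4 := by
        refine Nat.dvd_gcd (hy ▸ orderOf_map_dvd φ y) ?_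
        have := orderOf_dvd_natCard (φ y)
        rwa [IsCyclic.card_mulAut, hS] at this
      have h1 : φ y = 1 := orderOf_eq_one_iff.mp (Nat.dvd_one.mp hd)
      intro s hs
      have h2 := congrArg (fun σ : MulAut (S : Subgroup X) => ((σ ⟨s, hs⟩ : (S : Subgroup X)) : X)) h1
      simp only [φ, MulAut.conjNormal_apply, MulAut.one_apply] at h2
      exact mul_inv_eq_iff_eq_mul.mp h2
    obtain ⟨S', -, hS', -, -, -⟩ := exists_sylow_le (fun P => (h5C P).1)
      ((S : Subgroup X).map X.subtype) (by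
        rw [← Nat.card_congr (equivMapOfInjective _ _ X.subtype_injective).toEquiv, hS])
    have hyC : (y : G) ∈ centralizer ((S' : Subgroup G) : Set G) := by
      rw [mem_centralizer_iff]
      intro z hz
      obtain ⟨s, hs, rfl⟩ := hS' hz
      exact congrArg Subtype.val (hyS s hs).eq.symm
    have := orderOf_dvd_natCard (⟨_, hyC⟩ : centralizer ((S' : Subgroup G) : Set G))
    rw [orderOf_mk, orderOf_coe, hy, (h5C S').2] at this
    norm_num at this

theorem not_5460 (hG : ¬ IsMulCommutative G) (h : Nat.card G = 5460) : False := by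
  have : Fact (Nat.Prime 13) := ⟨by norm_num⟩
  have : Fact (Nat.Prime 7) := ⟨by norm_num⟩
  have : Fact (Nat.Prime 5) := ⟨by norm_num⟩
  have : Fact (Nat.Prime 3) := ⟨by norm_num⟩
  have : Fact (Nat.Prime 2) := ⟨Nat.prime_two⟩
  have h7C : ∀ S : Sylow 7 G, Nat.card (S : Subgroup G) = 7 ∧
      Nat.card (centralizer ((S : Subgroup G) : Set G)) = 7 := fun S => by
    obtain ⟨hS, n, e, K, hm, -, -, -, -, -, -, -, -, hC, -, -, -⟩ :=
      prime_options hG 7 780 (by norm_num) (by rw [h]) (by norm_num) S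
    obtain ⟨hS5, n', e', K', hm', -, -, -, -, -, -, -, -, hC', -, -, -⟩ :=
      prime_options hG 5 1092 (by norm_num) (by rw [h]) (by norm_num) (default : Sylow 5 G)
    have h1 : ∀ t ∈ primeOpts 7 780, t.2.2 = 1 ∨ t.2.2 % 5 = 0 := by decide +kernel
    have h2 : ∀ t ∈ primeOpts 5 1092, t.2.2 % 7 ≠ 0 := by decide +kernel
    refine ⟨hS, ?_⟩
    rcases h1 _ hm with h' | h'
    · rw [hC, show K = 1 from h']
    · exfalso
      replace h' : K % 5 = 0 := h'
      have := dual_dvd S (default : Sylow 5 G) hS hS5 (by rw [hC]; omega)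
      rw [hC'] at this
      exact h2 _ hm' (Nat.mod_eq_zero_of_dvd
        ((Nat.Prime.dvd_mul (by norm_num)).mp this |>.resolve_left (by norm_num)))
  have h13C : ∀ S : Sylow 13 G, Nat.card (S : Subgroup G) = 13 ∧
      Nat.card (centralizer ((S : Subgroup G) : Set G)) = 26 ∧
      Nat.card (normalizer ((S : Subgroup G) : Set G)) = 52 := fun S => by
    obtain ⟨hS, n, e, K, hm, hd⟩ :=
      prime_options hG 13 420 (by norm_num) (by rw [h]) (by norm_num) S
    obtain ⟨-, -, -, -, -, -, -, -, hC, hN, -, -⟩ := id hd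
    have h1 : ∀ t ∈ primeOpts 13 420, t.2.1 % 4 = 0 ∨ t.2.1 = 2 ∧ t.2.2 = 2 := by decide +kernel
    refine ⟨hS, ?_⟩
    rcases h1 _ hm with h4 | ⟨he, hK⟩
    · exact absurd (Nat.dvd_of_mod_eq_zero h4)
        (automizer_ne_four hG (by rw [h]; norm_num) (by rw [h]; norm_num) S hS hd)
    · rw [hC, hN, show e = 2 from he, show K = 2 from hK]
      exact ⟨rfl, rfl⟩
  obtain ⟨hP, n, e, K, hm, -, -, -, -, -, -, -, -, hC, -, -, -⟩ :=
    prime_options hG 3 1820 (by norm_num) (by rw [h]) (by norm_num) (default : Sylow 3 G)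
  have h1 : ∀ t ∈ primeOpts 3 1820, t.2.2 % 13 = 0 ∨ t.2.2 % 7 = 0 ∨ t.2.2 % 2 = 0 ∨ t.2.2 = 1 := by
    decide +kernel
  rcases h1 _ hm with h' | h' | h' | h'
  · replace h' : K % 13 = 0 := h'
    have := dual_dvd (default : Sylow 3 G) (default : Sylow 13 G) hP (h13C _).1 (by rw [hC]; omega)
    rw [(h13C _).2.1] at this
    norm_num at this
  · replace h' : K % 7 = 0 := h'
    have := dual_dvd (default : Sylow 3 G) (default : Sylow 7 G) hP (h7C _).1 (by rw [hC]; omega)
    rw [(h7C _).2] at this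
    norm_num at this
  · replace h' : K % 2 = 0 := h'
    have h8 : ¬ 8 ∣ Nat.card G := by rw [h]; norm_num
    let T : Sylow 2 G := default
    have hTK := (S0992.result hG (by rw [h]; decide) h8 T).1
    have hconj : ∀ s t : G, orderOf s = 2 → orderOf t = 2 → IsConj s t := by
      rcases klein_sylow_dichotomy T hTK with ⟨hc, -⟩ | ⟨-, N, hN, hcomp⟩
      · exact hc
      · exfalso
        have hmul := hcomp.card_mul
        rw [hTK.card_four, h] at hmul
        rcases IsSimpleGroup.eq_bot_or_eq_top_of_normal N hN with rfl | rfl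
        · rw [card_bot] at hmul; omega
        · rw [card_top, h] at hmul; omega
    obtain ⟨x, u, hx, -, hu, hc, -⟩ := exists_commuting (q := 2) (default : Sylow 3 G) hP
      (by rw [hC]; omega)
    obtain ⟨z, v, hz, -, hv, hcz, -⟩ := exists_commuting (q := 2) (default : Sylow 13 G) (h13C _).1
      (by rw [(h13C _).2.1]; norm_num)
    obtain ⟨g, hg⟩ := isConj_iff.mp (hconj v u hv hu)
    set X := centralizer ({u} : Set G) with hX
    have h3X : 3 ∣ Nat.card X := by
      have := orderOf_dvd_natCard (⟨x, mem_centralizer_singleton_iff.mpr hc.eq⟩ : X)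
      rwa [orderOf_mk, hx] at this
    have hu1 : u ≠ 1 := fun hh => by rw [hh, orderOf_one] at hu; omega
    have h13X : 13 ∣ Nat.card X := by
      have hmem : g * z * g⁻¹ ∈ X := by
        rw [hX, mem_centralizer_singleton_iff, ← hg]
        exact (Commute.conj_iff g).mpr hcz
      have := orderOf_dvd_natCard (⟨_, hmem⟩ : X)
      have ho : orderOf (g * z * g⁻¹) = 13 := by
        rw [← hz]
        have := orderOf_injective (MulAut.conj g).toMonoidHom (MulAut.conj g).injective z
        simpa [MulAut.conj_apply] using this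
      rwa [orderOf_mk, ho] at this
    have h7X : ¬ 7 ∣ Nat.card X := not_dvd_centralizer hG (m := 780) (by norm_num) (by rw [h])
      (by norm_num) hu fun S => by rw [(h7C S).2]; norm_num
    obtain ⟨S, -, hS, -, -, -⟩ := exists_sylow_le (fun P => (h13C P).1) X h13X
    obtain ⟨k, t, -, -, hk13, hHkt, ht, ht13⟩ := sylow_count_one S X hS
    rw [(h13C S).2.2] at ht
    rw [(h13C S).1] at ht13
    have hmem := mem_subOpts hG h X (centralizer_ne_top hG hu1)
      (Nat.Coprime.mul_dvd_of_dvd_of_dvd (by norm_num : Nat.Coprime 3 13) h3X h13X)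
    have h5 : ∀ c ∈ subOpts 5460 (3 * 13), c.1 % 7 = 0 ∨
        ∀ t < 53, t ∣ 52 → 13 ∣ t → c.1 % t = 0 → (c.1 / t) % 13 ≠ 1 := by decide +kernel
    have htp : 0 < t := Nat.pos_of_dvd_of_pos ht (by norm_num)
    rcases h5 _ hmem with h7 | hall
    · exact h7X (Nat.dvd_of_mod_eq_zero h7)
    · refine hall t (by have := Nat.le_of_dvd (by norm_num) ht; omega) ht ht13
        (show Nat.card X % t = 0 by rw [hHkt]; exact Nat.mul_mod_left _ _) ?_
      show Nat.card X / t % 13 = 1
      rw [hHkt, Nat.mul_div_cancel _ htp]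
      exact hk13
  · rw [show K = 1 from h'] at hC
    rcases self_three hG _ hP hC with h'' | h'' <;> omega

theorem not_5880 (hG : ¬ IsMulCommutative G) (h : Nat.card G = 5880) : False := by
  classical
  have : Fact (Nat.Prime 7) := ⟨by norm_num⟩
  have : Fact (Nat.Prime 5) := ⟨by norm_num⟩
  have : Fact (Nat.Prime 3) := ⟨by norm_num⟩
  have : Fact (Nat.Prime 2) := ⟨Nat.prime_two⟩
  have h5C : ∀ S : Sylow 5 G, Nat.card (S : Subgroup G) = 5 ∧
      Nat.card (centralizer ((S : Subgroup G) : Set G)) = 15 ∧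
      Nat.card (normalizer ((S : Subgroup G) : Set G)) = 30 := fun S => by
    obtain ⟨hS, n, e, K, hm, -, -, -, -, -, -, -, -, hC, hN, -, -⟩ :=
      prime_options hG 5 1176 (by norm_num) (by rw [h]) (by norm_num) S
    have h1 : ∀ t ∈ primeOpts 5 1176, t.2.1 = 2 ∧ t.2.2 = 3 := by decide +kernel
    obtain ⟨he, hK⟩ := h1 _ hm
    rw [hC, hN, show e = 2 from he, show K = 3 from hK]
    exact ⟨hS, rfl, rfl⟩
  set P : Sylow 3 G := default
  obtain ⟨hP, n, e, K, hm, -, -, -, -, -, -, -, -, hC, hN, -, -⟩ :=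
    prime_options hG 3 1960 (by norm_num) (by rw [h]) (by norm_num) P
  set C := centralizer ((P : Subgroup G) : Set G) with hCdef
  have h5K : 5 ∣ Nat.card C :=
    (show (5 : ℕ) ∣ Nat.card C from dual_dvd (default : Sylow 5 G) P (h5C _).1 hP
      (by rw [(h5C _).2.1]; norm_num))
  obtain ⟨S, x, hS, hx, hxS, hxC⟩ := exists_sylow_le (fun P => (h5C P).1) C h5K
  obtain ⟨k, t, -, htdef, hk5, hHkt, ht, -⟩ := sylow_count_one S C hS
  rw [(h5C S).2.2] at ht
  obtain ⟨y, hy, hyP⟩ := exists_generator P hP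
  have hxy : Commute x y := (mem_centralizer_iff.mp hxC y (hyP ▸ mem_zpowers y)).symm
  have hyC : y ∈ C := by
    rw [hCdef, centralizer_of_zpowers hyP, mem_centralizer_singleton_iff]
  have hyN : y ∈ normalizer ((S : Subgroup G) : Set G) := by
    refine centralizer_le_normalizer _ ?_
    rw [centralizer_of_zpowers hxS, mem_centralizer_singleton_iff]
    exact hxy.eq.symm
  have hxyo : orderOf (x * y) = 15 := by
    rw [hxy.orderOf_mul_eq_mul_orderOf_of_coprime (by rw [hx, hy]; norm_num), hx, hy]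
  have h15t : 15 ∣ t := by
    have hmem : x * y ∈ normalizer ((S : Subgroup G) : Set G) ⊓ C :=
      mul_mem ⟨le_normalizer (hxS ▸ mem_zpowers x), hxC⟩ ⟨hyN, hyC⟩
    have := orderOf_dvd_natCard (⟨_, hmem⟩ : ↥(normalizer ((S : Subgroup G) : Set G) ⊓ C))
    rwa [orderOf_mk, hxyo, ← htdef] at this
  have h1 : ∀ u ∈ primeOpts 3 1960, ∀ t < 31, t ∣ 30 → 15 ∣ t → (3 * u.2.2) % t = 0 →
      (3 * u.2.2 / t) % 5 = 1 → u.2.1 = 2 ∧ u.2.2 = 5 := by decide +kernel
  have htp : 0 < t := Nat.pos_of_dvd_of_pos ht (by norm_num)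
  obtain ⟨he, hK⟩ := h1 _ hm t (Nat.lt_succ_of_le (Nat.le_of_dvd (by norm_num) ht)) ht h15t
    (show 3 * K % t = 0 by rw [← hC, hHkt]; exact Nat.mul_mod_left _ _)
    (show 3 * K / t % 5 = 1 by rw [← hC, hHkt, Nat.mul_div_cancel _ htp]; exact hk5)
  simp only at he hK
  subst he; subst hK
  replace hC : Nat.card C = 15 := hC
  replace hN : Nat.card (normalizer ((P : Subgroup G) : Set G)) = 30 := hN
  -- the Sylow 7-subgroups
  have hcard : Nat.card G = 7 ^ 2 * 120 := by rw [h]; norm_num
  have h2 : ∀ s ∈ sylowOpts 7 (7 ^ 2 * 120) 120, s = 120 ∨ s = 15 := by decide +kernel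
  set Q : Sylow 7 G := default
  have hmulQ := H30.card_sylow_mul_normalizer 7 Q
  rcases h2 _ (sylow_options hG 7 2 120 hcard (by norm_num) (by norm_num)) with hn | hn
  · refine normalizer_card_ne hG Q (H30.card_sylow_subgroup _ hcard (by norm_num)) ?_
    rw [hn, h] at hmulQ
    exact (Nat.eq_of_mul_eq_mul_left (by norm_num : 0 < 120) (hmulQ.trans (by norm_num : 5880 = 120 * 7 ^ 2)))
  rw [hn, h] at hmulQ
  set H := normalizer ((Q : Subgroup G) : Set G) with hHdef
  have hH : Nat.card H = 392 := by omega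
  have hidx : H.index = 15 := by rw [← hn]; exact Q.card_eq_index_normalizer.symm
  have hHtop : H ≠ ⊤ := fun hh => by rw [hh, index_top] at hidx; omega
  -- an involution inverting the cyclic centralizer of order 15
  set z := x * y with hz
  have hzC : zpowers z = C := by
    refine eq_of_le_of_card_ge (zpowers_le.mpr (mul_mem hxC hyC)) ?_
    rw [Nat.card_zpowers, hxyo, hC]
  have hz10 : z ^ 10 = y := by
    rw [hz, hxy.mul_pow, ← pow_mod_orderOf x, hx, ← pow_mod_orderOf y, hy]
    simp
  have hz6 : z ^ 6 = x := by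
    rw [hz, hxy.mul_pow, ← pow_mod_orderOf x, hx, ← pow_mod_orderOf y, hy]
    simp
  set N := normalizer ((P : Subgroup G) : Set G) with hNdef
  obtain ⟨τ, hτ⟩ := exists_prime_orderOf_dvd_card' (G := N) 2 (by rw [hN]; norm_num)
  rw [← orderOf_coe] at hτ
  set s : G := (τ : G)
  have hs2 : s * s = 1 := by rw [← pow_two, ← hτ, pow_orderOf_eq_one]
  have hsC : s * z * s⁻¹ ∈ C := by
    rw [hCdef, mem_centralizer_iff]
    intro w hw
    have hw' : s⁻¹ * w * s ∈ (P : Subgroup G) := (mem_normalizer_iff''.mp τ.2 w).mp hw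
    have hzC' : z ∈ C := hzC ▸ mem_zpowers z
    have := mem_centralizer_iff.mp hzC' _ hw'
    calc w * (s * z * s⁻¹) = s * (s⁻¹ * w * s * z) * s⁻¹ := by group
      _ = s * (z * (s⁻¹ * w * s)) * s⁻¹ := by rw [this]
      _ = s * z * s⁻¹ * w := by group
  obtain ⟨i, hi, hzi⟩ : ∃ i < 15, z ^ i = s * z * s⁻¹ := by
    rw [← hzC, mem_zpowers_iff_mem_range_orderOf, hxyo] at hsC
    obtain ⟨i, hi, hzi⟩ := Finset.mem_image.mp hsC
    exact ⟨i, Finset.mem_range.mp hi, hzi⟩
  have hii : i * i % 15 = 1 := by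
    have h1 : z ^ (i * i) = z := by
      rw [pow_mul, hzi, conj_pow, hzi]
      calc s * (s * z * s⁻¹) * s⁻¹ = (s * s) * z * (s * s)⁻¹ := by group
        _ = z := by rw [hs2]; group
    have h3 : z ^ (i * i) = z ^ 1 := by rw [h1, pow_one]
    have := pow_eq_pow_iff_modEq.mp h3
    rwa [hxyo] at this
  have hi14 : i = 14 := by
    have hodd : ∀ {w : G}, s ∈ centralizer ({w} : Set G) →
        2 ∣ Nat.card (centralizer ({w} : Set G)) := fun hmem => by
      have := orderOf_dvd_natCard (⟨s, hmem⟩ : centralizer ({_} : Set G))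
      rwa [orderOf_mk, hτ] at this
    have hcases : ∀ i < 15, i * i % 15 = 1 → i = 14 ∨ 10 * i % 15 = 10 ∨ 6 * i % 15 = 6 := by decide
    rcases hcases i hi hii with h' | h' | h'
    · exact h'
    · exfalso
      have hmem : s ∈ centralizer ({y} : Set G) := by
        rw [mem_centralizer_singleton_iff]
        have : s * y * s⁻¹ = y := by
          rw [← hz10, ← conj_pow, ← hzi, ← pow_mul, ← pow_mod_orderOf, hxyo, mul_comm i 10, h']
        exact mul_inv_eq_iff_eq_mul.mp this
      have := hodd hmem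
      rw [← centralizer_of_zpowers hyP, ← hCdef, hC] at this
      norm_num at this
    · exfalso
      have hmem : s ∈ centralizer ({x} : Set G) := by
        rw [mem_centralizer_singleton_iff]
        have : s * x * s⁻¹ = x := by
          rw [← hz6, ← conj_pow, ← hzi, ← pow_mul, ← pow_mod_orderOf, hxyo, mul_comm i 6, h']
        exact mul_inv_eq_iff_eq_mul.mp this
      have := hodd hmem
      rw [← centralizer_of_zpowers hxS, (h5C S).2.1] at this
      norm_num at this
  subst hi14
  -- orbits of `z`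
  have hfix : (fixedBy (G ⧸ H) s).ncard ≤ 1 := by
    rw [Set.ncard_le_one (Set.toFinite _)]
    intro a ha b hb
    have hper : period z a = 15 := by
      have hd : period z a ∣ 15 := hxyo ▸ period_dvd_orderOf z a
      have hmem : period z a ∈ Nat.divisors 15 := Nat.mem_divisors.mpr ⟨hd, by norm_num⟩
      have hdv : Nat.divisors 15 = {1, 3, 5, 15} := by decide
      rw [hdv] at hmem
      simp only [Finset.mem_insert, Finset.mem_singleton] at hmem
      have key : ∀ {w : G} {q : ℕ}, orderOf w = q → ¬ q ∣ 392 → w • a ≠ a := fun {w q} hw hq hh => by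
        have h0 := card_fixed_eq_zero H hw (by rw [hH]; exact hq)
        have : Nonempty (fixedBy (G ⧸ H) w) := ⟨⟨a, hh⟩⟩
        exact Nat.card_pos.ne' h0
      rcases hmem with h' | h' | h' | h'
      · exact absurd (pow_smul_eq_iff_period_dvd.mpr ⟨6, by omega⟩ : z ^ 6 • a = a)
          (hz6 ▸ key hx (by norm_num))
      · exact absurd (pow_smul_eq_iff_period_dvd.mpr ⟨2, by omega⟩ : z ^ 6 • a = a)
          (hz6 ▸ key hx (by norm_num))
      · exact absurd (pow_smul_eq_iff_period_dvd.mpr ⟨2, by omega⟩ : z ^ 10 • a = a)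
          (hz10 ▸ key hy (by norm_num))
      · exact h'
    have horb : orbit (zpowers z) a = Set.univ := by
      refine Set.eq_of_subset_of_ncard_le (Set.subset_univ _) (le_of_eq ?_)
      rw [Set.ncard_univ, ← index_eq_card, hidx, ← Nat.card_coe_set_eq]
      refine ((Nat.card_congr (orbitZPowersEquiv z a)).trans ?_).symm
      rw [Nat.card_zmod]
      exact hper
    obtain ⟨⟨w, hw⟩, hwb⟩ : b ∈ orbit (zpowers z) a := horb ▸ Set.mem_univ b
    obtain ⟨j, -, rfl⟩ : ∃ j, j < 15 ∧ z ^ j = w := by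
      rw [mem_zpowers_iff_mem_range_orderOf, hxyo] at hw
      obtain ⟨j, hj, hjw⟩ := Finset.mem_image.mp hw
      exact ⟨j, Finset.mem_range.mp hj, hjw⟩
    replace hwb : z ^ j • a = b := hwb
    have hb' : s • z ^ j • a = z ^ j • a := by rw [hwb]; exact hb
    have ha' : s⁻¹ • a = a := inv_smul_eq_iff.mpr (Eq.symm ha)
    have h5 : z ^ (14 * j) • a = z ^ j • a := by
      rw [pow_mul, hzi, conj_pow, mul_smul, mul_smul, ha']
      exact hb'
    have h6 : z ^ (15 * j) • a = a := by
      rw [pow_mul, ← hxyo, pow_orderOf_eq_one, one_pow, one_smul]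
    have h7 : z ^ (2 * j) • a = a := by
      calc z ^ (2 * j) • a = z ^ j • (z ^ j • a) := by rw [two_mul, pow_add, mul_smul]
        _ = z ^ j • (z ^ (14 * j) • a) := by rw [h5]
        _ = z ^ (15 * j) • a := by rw [smul_smul, ← pow_add]; ring_nf
        _ = a := h6
    have h8 := pow_smul_eq_iff_period_dvd.mp h7
    rw [hper] at h8
    obtain ⟨l, hl⟩ : 15 ∣ j := (Nat.Coprime.dvd_of_dvd_mul_left (by norm_num) h8)
    rw [← hwb, hl, pow_mul, ← hxyo, pow_orderOf_eq_one, one_pow, one_smul]
  have hmod := H30.card_fixedBy_involution_mod_four hG H (by rw [pow_two]; exact hs2 : s ^ 2 = 1)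
  rw [hidx, Nat.card_coe_set_eq] at hmod
  omega

end Cfsg.Agent.H28.Range6232
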