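import Cfsg.Agent.H28.SmallOrders.Range.Helpers

/-!
# Excluded orders, part C: a centralizer of order 300 or 400
-/

set_option autoImplicit false
set_option synthInstance.maxSize 1024

namespace Cfsg.Agent.H28.Range6232

open Subgroup MulAction

variable {G : Type*} [Group G] [Finite G] [IsSimpleGroup G]

/-- A centralizer of an element of order 5 whose index is the least possible is its normalizer. -/
theorem normalizer_le_of_index (hG : ¬ IsMulCommutative G) {n c : ℕ} (hn : Nat.card G = n) {d : G}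
    (hd : orderOf d = 5) (hc : Nat.card (centralizer ({d} : Set G)) = c)
    (hopt : ∀ t ∈ subOpts n c, t.1 = c) :
    normalizer (zpowers d : Set G) ≤ centralizer ({d} : Set G) := by
  have hle : centralizer ({d} : Set G) ≤ normalizer (zpowers d : Set G) := by
    rw [← centralizer_of_zpowers (rfl : zpowers d = zpowers d)]
    exact centralizer_le_normalizer _
  have : Fact (Nat.Prime 5) := ⟨by norm_num⟩
  have hpg : IsPGroup 5 (zpowers d) :=
    IsPGroup.of_card (n := 1) (by rw [Nat.card_zpowers, hd, pow_one])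
  have htop : normalizer (zpowers d : Set G) ≠ ⊤ := by
    refine H30.normalizer_ne_top _ (fun hh => ?_) (H30.sylow_ne_top hG 5 _ hpg)
    rw [zpowers_eq_bot] at hh
    rw [hh, orderOf_one] at hd
    norm_num at hd
  have hmem := mem_subOpts hG hn _ htop (hc ▸ card_dvd_of_le hle)
  have h' : Nat.card (normalizer (zpowers d : Set G)) = c := hopt _ hmem
  exact (eq_of_le_of_card_ge hle (by rw [h', hc])).ge

/-- A centralizer of order 300 containing six Sylow 5-subgroups is impossible when the class of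
`d` has too few members. -/
theorem not_three_hundred (hG : ¬ IsMulCommutative G) {n i N : ℕ} (hn : Nat.card G = n) {d : G}
    (hd : orderOf d = 5) [Fact (Nat.Prime 5)] (Q : Sylow 5 G) (hdQ : d ∈ (Q : Subgroup G))
    (hab : IsMulCommutative (Q : Subgroup G)) (hQ : Nat.card (Q : Subgroup G) = 5 ^ 2)
    (hQH : (Q : Subgroup G) ≤ centralizer ({d} : Set G))
    (hc : Nat.card (centralizer ({d} : Set G)) = 300) (hi : n = i * 300)
    (hk : Nat.card (Sylow 5 (centralizer ({d} : Set G))) = 6)
    (ht : Nat.card ↥(normalizer ((Q : Subgroup G) : Set G) ⊓ centralizer ({d} : Set G)) = 50)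
    (hN : Nat.card (normalizer ((Q : Subgroup G) : Set G)) = N * 50)
    (hopt : ∀ t ∈ subOpts n 300, t.1 = 300)
    (hbound : i < N * ((6 - 1) * (N - 1)) + N) : False := by
  have hidx : (centralizer ({d} : Set G)).index = i := by
    have h := (centralizer ({d} : Set G)).index_mul_card
    rw [hc, hn, hi] at h
    exact Nat.eq_of_mul_eq_mul_right (by norm_num) h
  have := commuting_conjugates_bound hd Q hdQ hab hQ hQH
    (normalizer_le_of_index hG hn hd hc hopt) N 6 i hk (by rw [ht, hN]) hidx
  omega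

theorem not_5400 (hG : ¬ IsMulCommutative G) (h : Nat.card G = 5400) : False := by
  have : Fact (Nat.Prime 5) := ⟨by norm_num⟩
  have hcard : Nat.card G = 5 ^ 2 * 216 := by rw [h]; norm_num
  have h1 : ∀ s ∈ sylowOpts 5 (5 ^ 2 * 216) 216, s = 216 ∨ s = 36 := by decide +kernel
  rcases h1 _ (sylow_options hG 5 2 216 hcard (by norm_num) (by norm_num)) with hn | hn
  · refine normalizer_card_ne hG (default : Sylow 5 G)
      (H30.card_sylow_subgroup _ hcard (by norm_num)) ?_
    have := H30.card_sylow_mul_normalizer 5 (default : Sylow 5 G)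
    rw [hn, h] at this
    exact (Nat.eq_of_mul_eq_mul_left (by norm_num : 0 < 216) (this.trans (by norm_num : 5400 = 216 * 5 ^ 2)))
  · obtain ⟨d, Q, R, hd, hdQ, -, hne, hab, hQ, hQH, hRH⟩ :=
      exists_common_element hcard (by norm_num) (by rw [hn]; norm_num)
    obtain ⟨k, hk, hk5, hk1, hHk, hdvd⟩ := sylow_count_two Q R hne _ hQH hRH
    have hd1 : d ≠ 1 := fun hh => by rw [hh, orderOf_one] at hd; omega
    rw [hQ] at hdvd
    have hmem := mem_subOpts hG h _ (centralizer_ne_top hG hd1) ((dvd_mul_left (5 ^ 2) k).trans hdvd)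
    have hkm : k < 217 := by
      have := Nat.le_of_dvd (by norm_num) (hdvd.trans (h ▸ card_subgroup_dvd_card _))
      omega
    have h2 : ∀ c ∈ subOpts 5400 (5 ^ 2), ∀ k < 217, k % 5 = 1 → 1 < k → k * 5 ^ 2 ∣ c.1 →
        k = 6 ∧ (c.1 = 2 * 75 ∨ c.1 = 2 * 225 ∨ c.1 = 300) := by decide +kernel
    obtain ⟨hk6, hc⟩ := h2 _ hmem k hkm hk5 hk1 hdvd
    rcases hc with hc | hc | hc
    · exact odd_card_sylow (p := 5) (by norm_num) hc (by norm_num) (by rw [← hk, hk6]; norm_num)
    · exact odd_card_sylow (p := 5) (by norm_num) hc (by norm_num) (by rw [← hk, hk6]; norm_num)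
    · simp only at hc
      have hmul := H30.card_sylow_mul_normalizer 5 Q
      rw [hn, h] at hmul
      rw [hc, hk6] at hHk
      exact not_three_hundred hG (i := 18) (N := 3) h hd Q hdQ hab hQ hQH hc (by norm_num)
        (hk.symm.trans hk6) (Nat.eq_of_mul_eq_mul_left (by norm_num : 0 < 6)
          (hHk.symm.trans (by norm_num : 300 = 6 * 50)))
        (Nat.eq_of_mul_eq_mul_left (by norm_num : 0 < 36)
          (hmul.trans (by norm_num : 5400 = 36 * (3 * 50))))
        (by decide +kernel) (by norm_num)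

/-- Order 4800: a centralizer of order 400 of an element of order five. -/
theorem not_four_hundred (hG : ¬ IsMulCommutative G) (h : Nat.card G = 4800) {d : G}
    (hd : orderOf d = 5) [Fact (Nat.Prime 5)] (Q : Sylow 5 G)
    (hQ : Nat.card (Q : Subgroup G) = 5 ^ 2) (hQH : (Q : Subgroup G) ≤ centralizer ({d} : Set G))
    (hc : Nat.card (centralizer ({d} : Set G)) = 400)
    (hk : Nat.card (Sylow 5 (centralizer ({d} : Set G))) = 16)
    (ht : Nat.card ↥(normalizer ((Q : Subgroup G) : Set G) ⊓ centralizer ({d} : Set G)) = 25) :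
    False := by
  set H := centralizer ({d} : Set G) with hHdef
  have hd1 : d ≠ 1 := fun hh => by rw [hh, orderOf_one] at hd; omega
  have hHtop : H ≠ ⊤ := centralizer_ne_top hG hd1
  have hidx : H.index = 12 := by
    have h' := H.index_mul_card
    rw [hc, h] at h'
    omega
  have hNH : normalizer (H : Set G) = H := by
    have hb : H ≠ ⊥ := fun hh => by rw [hh, card_bot] at hc; omega
    have hmem := mem_subOpts hG h _ (H30.normalizer_ne_top H hb hHtop)
      (hc ▸ card_dvd_of_le (le_normalizer : H ≤ normalizer (H : Set G)))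
    have hopt : ∀ t ∈ subOpts 4800 400, t.1 = 400 := by decide +kernel
    have h' : Nat.card (normalizer (H : Set G)) = 400 := hopt _ hmem
    exact (eq_of_le_of_card_ge le_normalizer (by rw [h', hc])).symm
  set a0 : G ⧸ H := ((1 : G) : G ⧸ H) with ha0
  have ha0Q : a0 ∈ fixedPoints (Q : Subgroup G) (G ⧸ H) := fun y => by
    show (y : G) • a0 = a0
    rw [ha0, MulAction.Quotient.smul_coe, smul_eq_mul, mul_one]
    exact QuotientGroup.eq.mpr (show (y : G)⁻¹ * 1 ∈ H from (mul_one (y : G)⁻¹).symm ▸ inv_mem (hQH y.2))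
  have hmod := Q.2.card_modEq_card_fixedPoints (G ⧸ H)
  rw [← index_eq_card, hidx, Nat.ModEq] at hmod
  obtain ⟨a, ha, hne⟩ : ∃ a ∈ fixedPoints (Q : Subgroup G) (G ⧸ H), a ≠ a0 := by
    by_contra hall
    push Not at hall
    have : fixedPoints (Q : Subgroup G) (G ⧸ H) = {a0} :=
      Set.eq_singleton_iff_unique_mem.mpr ⟨ha0Q, hall⟩
    rw [this, Nat.card_coe_set_eq, Set.ncard_singleton] at hmod
    omega
  set L := stabilizer G a ⊓ H with hL
  have hQL : (Q : Subgroup G) ≤ L := fun y hy => ⟨ha ⟨y, hy⟩, hQH hy⟩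
  obtain ⟨k, t, -, htdef, hk5, hLkt, -, hQt⟩ := sylow_count_one Q L hQL
  rw [hQ] at hQt
  have ht25 : t = 25 := by
    have hle : t ≤ 25 := by
      rw [htdef, ← ht]
      exact card_le_of_le (inf_le_inf le_rfl inf_le_right)
    have htp : 0 < t := htdef ▸ Nat.card_pos
    have := Nat.le_of_dvd htp hQt
    omega
  rw [ht25] at hLkt
  -- the orbit of `a` under `H`
  have horb : (orbit H a).ncard * Nat.card L = 400 := by
    have h1 : (stabilizer H a) = L.subgroupOf H := by
      ext y
      simp only [L, mem_subgroupOf, mem_inf, mem_stabilizer_iff]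
      exact ⟨fun hy => ⟨hy, y.2⟩, fun hy => hy.1⟩
    have h2 := (L.subgroupOf H).index_mul_card
    rw [Nat.card_congr (subgroupOfEquivOfLe (inf_le_right : L ≤ H)).toEquiv, hc, ← h1, index] at h2
    rw [← Nat.card_coe_set_eq, Nat.card_congr (orbitEquivQuotientStabilizer H a)]
    exact h2
  have hlt : (orbit H a).ncard < 12 := by
    rw [← hidx, index_eq_card, ← Set.ncard_univ]
    refine Set.ncard_lt_ncard (Set.ssubset_univ_iff.mpr fun hh => hne ?_) (Set.toFinite _)
    obtain ⟨y, hy⟩ : a0 ∈ orbit H a := hh ▸ Set.mem_univ a0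
    have hy' : (y : G) • a = a0 := hy
    have hfix : ((y : G)⁻¹) • a0 = a0 := by
      rw [ha0, MulAction.Quotient.smul_coe, smul_eq_mul, mul_one]
      exact QuotientGroup.eq.mpr (show ((y : G)⁻¹)⁻¹ * 1 ∈ H by
        rw [inv_inv, mul_one]; exact y.2)
    rw [← inv_smul_smul (y : G) a, hy', hfix]
  have hk16 : k = 1 ∨ k = 16 := by
    have hd' : k * 25 ∣ 400 := hLkt ▸ hc ▸ card_dvd_of_le (inf_le_right : L ≤ H)
    have hk : k < 17 := by
      have := Nat.le_of_dvd (by norm_num) hd'
      omega
    have : ∀ k < 17, k * 25 ∣ 400 → k % 5 = 1 → k = 1 ∨ k = 16 := by decide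
    exact this k hk hd' hk5
  rcases hk16 with hk1 | hk1
  · rw [hLkt, hk1] at horb
    omega
  · apply hne
    have hLH : L = H := eq_of_le_of_card_ge inf_le_right (by rw [hLkt, hk1, hc])
    induction a using QuotientGroup.induction_on with
    | H g =>
      refine QuotientGroup.eq.mpr ?_
      rw [mul_one]
      refine inv_mem ?_
      rw [← hNH]
      have hle : H.map (MulAut.conj g⁻¹).toMonoidHom ≤ H := by
        rintro y ⟨z, hz, rfl⟩
        have h2 : z • (g : G ⧸ H) = g := (hLH.symm ▸ hz : z ∈ L).1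
        rw [MulAction.Quotient.smul_coe, smul_eq_mul] at h2
        have h3 := inv_mem (QuotientGroup.eq.mp h2)
        simpa [MulAut.conj_apply, mul_assoc] using h3
      have heq : H.map (MulAut.conj g⁻¹).toMonoidHom = H := eq_of_le_of_card_ge hle
        (Nat.card_congr (equivMapOfInjective _ _ (MulAut.conj g⁻¹).injective).toEquiv).le
      refine mem_normalizer_iff''.mpr fun y => ⟨fun hy => ?_, fun hy => ?_⟩
      · rw [← heq]
        exact ⟨y, hy, by simp [MulAut.conj_apply]⟩
      · rw [← heq] at hy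
        obtain ⟨z, hz, hzy⟩ := hy
        simp only [MulEquiv.coe_toMonoidHom, MulAut.conj_apply, inv_inv] at hzy
        have : z = y := by simpa using hzy
        exact this ▸ hz

theorem not_4800 (hG : ¬ IsMulCommutative G) (h : Nat.card G = 4800) : False := by
  have : Fact (Nat.Prime 5) := ⟨by norm_num⟩
  have hcard : Nat.card G = 5 ^ 2 * 192 := by rw [h]; norm_num
  have h1 : ∀ s ∈ sylowOpts 5 (5 ^ 2 * 192) 192, s = 16 ∨ s = 96 := by decide +kernel
  have hn := h1 _ (sylow_options hG 5 2 192 hcard (by norm_num) (by norm_num))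
  obtain ⟨d, Q, R, hd, hdQ, -, hne, hab, hQ, hQH, hRH⟩ :=
    exists_common_element hcard (by norm_num) (by rcases hn with hn | hn <;> rw [hn] <;> norm_num)
  obtain ⟨k, hk, hk5, hk1, hHk, hdvd⟩ := sylow_count_two Q R hne _ hQH hRH
  have hd1 : d ≠ 1 := fun hh => by rw [hh, orderOf_one] at hd; omega
  rw [hQ] at hdvd
  have hmem := mem_subOpts hG h _ (centralizer_ne_top hG hd1) ((dvd_mul_left (5 ^ 2) k).trans hdvd)
  have hkm : k < 193 := by
    have := Nat.le_of_dvd (by norm_num) (hdvd.trans (h ▸ card_subgroup_dvd_card _))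
    omega
  have h2 : ∀ c ∈ subOpts 4800 (5 ^ 2), ∀ k < 193, k % 5 = 1 → 1 < k → k * 5 ^ 2 ∣ c.1 →
      k = 6 ∧ c.1 = 2 * 75 ∨ k = 6 ∧ c.1 = 300 ∨ k = 16 ∧ c.1 = 400 := by decide +kernel
  have hmul := H30.card_sylow_mul_normalizer 5 Q
  rw [h] at hmul
  rcases h2 _ hmem k hkm hk5 hk1 hdvd with ⟨hk6, hc⟩ | ⟨hk6, hc⟩ | ⟨hk6, hc⟩
  · exact odd_card_sylow (p := 5) (by norm_num) hc (by norm_num) (by rw [← hk, hk6]; norm_num)
  · simp only at hc
    rw [hc, hk6] at hHk
    have ht := Nat.eq_of_mul_eq_mul_left (by norm_num : 0 < 6)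
      (hHk.symm.trans (by norm_num : 300 = 6 * 50))
    rcases hn with hn | hn
    · rw [hn] at hmul
      exact not_three_hundred hG (i := 16) (N := 6) h hd Q hdQ hab hQ hQH hc (by norm_num)
        (hk.symm.trans hk6) ht
        (Nat.eq_of_mul_eq_mul_left (by norm_num : 0 < 16)
          (hmul.trans (by norm_num : 4800 = 16 * (6 * 50))))
        (by decide +kernel) (by norm_num)
    · rw [hn] at hmul
      have hN := Nat.eq_of_mul_eq_mul_left (by norm_num : 0 < 96)
        (hmul.trans (by norm_num : 4800 = 96 * 50))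
      have heq : normalizer ((Q : Subgroup G) : Set G) ⊓ centralizer ({d} : Set G) =
          normalizer ((Q : Subgroup G) : Set G) :=
        eq_of_le_of_card_ge inf_le_left (by rw [hN, ht])
      exact hd1 (eq_one_of_central_normalizer hG Q hab hdQ (inf_eq_left.mp heq))
  · simp only at hc
    rw [hc, hk6] at hHk
    exact not_four_hundred hG h hd Q hQ hQH hc (hk.symm.trans hk6)
      (Nat.eq_of_mul_eq_mul_left (by norm_num : 0 < 16)
        (hHk.symm.trans (by norm_num : 400 = 16 * 25)))

end Cfsg.Agent.H28.Range6232
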