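import Cfsg.Agent.H28.SmallOrders.Range.CasesA
import Cfsg.Agent.H28.SmallOrders.Range.CasesB
import Cfsg.Agent.H28.SmallOrders.Range.CasesC
import Cfsg.Agent.S0998
import Cfsg.Agent.S0999
import Cfsg.Agent.S0205
import Cfsg.Agent.H6.Basic
import Cfsg.Agent.S0975
import Cfsg.Agent.S0976
import Cfsg.Agent.S0977
import Cfsg.Agent.S0978
import Cfsg.Agent.S0980

/-!
# Simple groups of order between 3641 and 6232
-/

set_option autoImplicit false
set_option synthInstance.maxSize 1024

namespace Cfsg.Agent.H28.Range6232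

open Subgroup MulAction

variable {G : Type*} [Group G] [Finite G] [IsSimpleGroup G]

theorem false_of_solvable (hG : ¬ IsMulCommutative G) [Group.IsSolvable G] : False :=
  hG ⟨⟨IsSimpleGroup.comm_iff_isSolvable.mpr inferInstance⟩⟩

theorem false_of_two_primes (hG : ¬ IsMulCommutative G) (p q a b : ℕ) (hp : p.Prime) (hq : q.Prime)
    (h : Nat.card G = p ^ a * q ^ b) : False :=
  have := H25.isSolvable_of_card_eq_mul_pow hp hq h
  false_of_solvable hG

theorem false_of_klein (hG : ¬ IsMulCommutative G) (h4 : 4 ∣ Nat.card G) (h8 : ¬ 8 ∣ Nat.card G)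
    (h3 : ¬ 3 ∣ Nat.card G) : False := by
  refine h3 ?_
  rw [← (S0992.result hG (even_iff_two_dvd.mpr ((by norm_num : 2 ∣ 4).trans h4)) h8
    (default : Sylow 2 G)).2]
  exact (relIndex_dvd_card _ _).trans (card_subgroup_dvd_card _)

theorem not_isCyclic (hG : ¬ IsMulCommutative G) : ¬ IsCyclic G := fun _ =>
  hG IsCyclic.isMulCommutative

theorem false_of_prq (hG : ¬ IsMulCommutative G) (p q r b : ℕ) (hp : p.Prime) (hq : q.Prime)
    (hr : r.Prime) (hpq : p ≠ q) (hpr : p ≠ r) (hqr : q ≠ r) (h : Nat.card G = p * r * q ^ b)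
    (h60 : Nat.card G ≠ 60) (h168 : Nat.card G ≠ 168) : False := by
  rcases S0998.result (not_isCyclic hG) p q r b hp hq hr hpq hpr hqr h with
    ⟨F, iF, iFf, hF, ⟨e⟩⟩ | ⟨F, iF, iFf, hF, ⟨e⟩⟩
  all_goals
    have hc := H6.card_psl2_mul (F := F) hF
    rw [← Nat.card_congr e.toEquiv] at hc
    norm_num at hc
    omega

/-- The odd orders and twice odd orders are excluded. -/
theorem four_dvd (hG : ¬ IsMulCommutative G) : 4 ∣ Nat.card G := by
  by_contra h4
  by_cases h2 : 2 ∣ Nat.card G
  · have : Fact (Nat.Prime 2) := ⟨Nat.prime_two⟩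
    obtain ⟨m, hm⟩ := h2
    let T : Sylow 2 G := default
    have hT : Nat.card (T : Subgroup G) = 2 := by
      simpa using H30.card_sylow_subgroup (a := 1) (m := m) T (by rw [hm, pow_one]) (by omega)
    obtain ⟨H, hH⟩ := exists_index_two_of_cyclic_sylow (by rw [hm]; exact ⟨m, by ring⟩) T
      (isCyclic_of_prime_card hT)
    rcases IsSimpleGroup.eq_bot_or_eq_top_of_normal H (normal_of_index_eq_two hH) with rfl | rfl
    · rw [index_bot] at hH
      exact hG (by
        have : IsCyclic G := isCyclic_of_prime_card hH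
        exact IsCyclic.isMulCommutative)
    · rw [index_top] at hH; omega
  · have := S0205.result (G := G) (Nat.not_even_iff_odd.mp fun h => h2 (even_iff_two_dvd.mp h))
    exact false_of_solvable hG

/-- A prime `p` with `p ^ 3 > |G|` leaves the two linear groups of orders 4080 and 6072. -/
theorem of_large_prime (hG : ¬ IsMulCommutative G) (h1 : 3640 < Nat.card G)
    (h2 : Nat.card G ≤ 6232) {p : ℕ} (hp : p.Prime) (h17 : 17 ≤ p) (hd : p ∣ Nat.card G)
    (hbig : Nat.card G < p ^ 3) : Nat.card G = 4080 ∨ Nat.card G = 6072 := by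
  rcases S0999.result (not_isCyclic hG) p hp hd hbig with
    ⟨F, iF, iFf, hF, -, ⟨e⟩⟩ | ⟨m, F, iF, iFf, hF, hm, -, ⟨e⟩⟩
  · have hc := H6.card_psl2_mul (F := F) hF
    rw [← Nat.card_congr e.toEquiv] at hc
    have hodd : Odd p := hp.odd_of_ne_two (by omega)
    obtain ⟨j, hj⟩ := hodd
    rw [Nat.gcd_eq_left (⟨j, by omega⟩ : 2 ∣ p - 1)] at hc
    have hp24 : p ≤ 23 := by
      by_contra hlt
      have h25 : 24 * (24 ^ 2 - 1) ≤ p * (p ^ 2 - 1) :=
        Nat.mul_le_mul (by omega) (Nat.sub_le_sub_right (Nat.pow_le_pow_left (by omega) 2) 1)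
      omega
    interval_cases p <;> norm_num at * <;> omega
  · have hc := H6.card_psl2_mul (F := F) hF
    rw [← Nat.card_congr e.toEquiv] at hc
    have hm4 : 4 ≤ m := by
      by_contra hlt
      have : 2 ^ m ≤ 2 ^ 3 := Nat.pow_le_pow_right two_pos (by omega)
      omega
    have hm5 : m < 5 := by
      by_contra hlt
      have h32 : 2 ^ 5 ≤ 2 ^ m := Nat.pow_le_pow_right two_pos (by omega)
      have h25 : 32 * (32 ^ 2 - 1) ≤ 2 ^ m * ((2 ^ m) ^ 2 - 1) :=
        Nat.mul_le_mul (by simpa using h32)
          (Nat.sub_le_sub_right (Nat.pow_le_pow_left (by simpa using h32) 2) 1)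
      have h3 : Nat.card G * Nat.gcd 2 (2 ^ m - 1) ≤ 6232 * 2 :=
        Nat.mul_le_mul h2 (Nat.gcd_le_left _ two_pos)
      omega
    obtain rfl : m = 4 := by omega
    norm_num at hc
    omega

/-- The orders with all prime divisors small. -/
def smoothList : List ℕ :=
  [3696, 3744, 3780, 3840, 3872, 3888, 3900, 3920, 3960, 4000, 4004, 4032, 4056, 4096, 4116, 4160,
   4200, 4212, 4224, 4312, 4320, 4356, 4368, 4400, 4480, 4500, 4536, 4576, 4608, 4620, 4680, 4704,
   4732, 4752, 4800, 4840, 4860, 4900, 4928, 4992, 5000, 5040, 5096, 5100, 5120, 5148, 5184, 5200,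
   5236, 5280, 5292, 5304, 5324, 5376, 5400, 5408, 5440, 5460, 5488, 5500, 5508, 5544, 5600, 5616,
   5632, 5712, 5720, 5760, 5780, 5808, 5824, 5832, 5880, 5940, 5984, 6000, 6048, 6084, 6120, 6144,
   6160, 6188]

theorem smooth_check : ∀ j < 648, (3644 + 4 * j) / Nat.gcd (3644 + 4 * j) (510510 ^ 13) = 1 ∧
      ((3644 + 4 * j) % 17 = 0 ∧ 3644 + 4 * j < 4913 ∨ 3644 + 4 * j ∈ smoothList) ∨
    1 < (3644 + 4 * j) / Nat.gcd (3644 + 4 * j) (510510 ^ 13) ∧
      Nat.gcd ((3644 + 4 * j) / Nat.gcd (3644 + 4 * j) (510510 ^ 13)) 510510 = 1 := by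
  decide +kernel

set_option maxHeartbeats 1600000 in
theorem main (hG : ¬ IsMulCommutative G) (h1 : 3640 < Nat.card G) (h2 : Nat.card G ≤ 6232) :
    Nat.card G = 4080 ∨ Nat.card G = 5616 ∨ Nat.card G = 6048 ∨ Nat.card G = 6072 := by
  obtain ⟨c, hc⟩ := four_dvd hG
  have hj := smooth_check (c - 911) (by omega)
  rw [show 3644 + 4 * (c - 911) = Nat.card G by omega] at hj
  rcases hj with ⟨-, h17 | hL⟩ | ⟨hgt, hcop⟩
  · rcases of_large_prime hG h1 h2 (p := 17) (by norm_num) le_rfl (Nat.dvd_of_mod_eq_zero h17.1)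
      (by omega) with h | h
    · exact Or.inl h
    · exact Or.inr (Or.inr (Or.inr h))
  swap
  · set g := Nat.card G / Nat.gcd (Nat.card G) (510510 ^ 13) with hg
    have hp := Nat.minFac_prime (show g ≠ 1 by omega)
    have hpd := Nat.minFac_dvd g
    have hgn : g ∣ Nat.card G := Nat.div_dvd_of_dvd (Nat.gcd_dvd_left _ _)
    have h19 : 19 ≤ g.minFac := by
      by_contra hlt
      have h510 : g.minFac ∣ 510510 := by
        have hcases : ∀ q < 19, q.Prime → q ∣ 510510 := by decide +kernel
        exact hcases _ (by omega) hp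
      have := Nat.dvd_gcd hpd h510
      rw [hcop] at this
      exact hp.one_lt.ne' (Nat.dvd_one.mp this)
    have hbig : Nat.card G < g.minFac ^ 3 :=
      lt_of_lt_of_le (by omega : Nat.card G < 19 ^ 3) (Nat.pow_le_pow_left h19 3)
    rcases of_large_prime hG h1 h2 hp (by omega) (hpd.trans hgn) hbig with h | h
    · exact Or.inl h
    · exact Or.inr (Or.inr (Or.inr h))
  generalize h : Nat.card G = n at hL
  simp only [smoothList, List.mem_cons, List.mem_nil_iff, or_false] at hL
  rcases hL with rfl | rfl | rfl | rfl | rfl | rfl | rfl | rfl | rfl | rfl | rfl | rfl | rfl | rfl | rfl | rfl | rfl | rfl | rfl | rfl | rfl | rfl | rfl | rfl | rfl | rfl | rfl | rfl | rfl | rfl | rfl | rfl | rfl | rfl | rfl | rfl | rfl | rfl | rfl | rfl | rfl | rfl | rfl | rfl | rfl | rfl | rfl | rfl | rfl | rfl | rfl | rfl | rfl | rfl | rfl | rfl | rfl | rfl | rfl | rfl | rfl | rfl | rfl | rfl | rfl | rfl | rfl | rfl | rfl | rfl | rfl | rfl | rfl | rfl | rfl | rfl | rfl | rfl | rfl | rfl | rfl | rfl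
  · exact (not_3696 hG h).elim
  · exact (S0975.result (G := G) h).elim
  · exact (not_3780 hG h).elim
  · exact (false_of_prq hG 3 2 5 8 (by norm_num) (by norm_num) (by norm_num) (by norm_num) (by norm_num) (by norm_num) (by rw [h]; norm_num) (by rw [h]; norm_num) (by rw [h]; norm_num)).elim
  · exact (false_of_two_primes hG 2 11 5 2 (by norm_num) (by norm_num) (by rw [h]; norm_num)).elim
  · exact (false_of_two_primes hG 2 3 4 5 (by norm_num) (by norm_num) (by rw [h]; norm_num)).elim
  · exact (false_of_primeOpts_nil hG 13 300 (by norm_num) (by norm_num) (by rw [h]) (by norm_num) (by decide +kernel)).elim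
  · exact (false_of_sylowOpts_nil hG 7 2 80 (by norm_num) (by norm_num) (by rw [h]; norm_num) (by norm_num) (by decide +kernel)).elim
  · exact (not_3960 hG h).elim
  · exact (false_of_two_primes hG 2 5 5 3 (by norm_num) (by norm_num) (by rw [h]; norm_num)).elim
  · exact (false_of_klein hG (by rw [h]; norm_num) (by rw [h]; norm_num) (by rw [h]; norm_num)).elim
  · exact (S0976.result (G := G) h).elim
  · exact (false_of_sylowOpts_nil hG 13 2 24 (by norm_num) (by norm_num) (by rw [h]; norm_num) (by norm_num) (by decide +kernel)).elim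
  · exact (false_of_two_primes hG 2 3 12 0 (by norm_num) (by norm_num) (by rw [h]; norm_num)).elim
  · exact (false_of_sylowOpts_nil hG 7 3 12 (by norm_num) (by norm_num) (by rw [h]; norm_num) (by norm_num) (by decide +kernel)).elim
  · exact (false_of_prq hG 5 2 13 6 (by norm_num) (by norm_num) (by norm_num) (by norm_num) (by norm_num) (by norm_num) (by rw [h]; norm_num) (by rw [h]; norm_num) (by rw [h]; norm_num)).elim
  · exact (not_4200 hG h).elim
  · exact (not_4212 hG h).elim
  · exact (false_of_prq hG 3 2 11 7 (by norm_num) (by norm_num) (by norm_num) (by norm_num) (by norm_num) (by norm_num) (by rw [h]; norm_num) (by rw [h]; norm_num) (by rw [h]; norm_num)).elim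
  · exact (false_of_primeOpts_nil hG 11 392 (by norm_num) (by norm_num) (by rw [h]) (by norm_num) (by decide +kernel)).elim
  · exact (S0977.result (G := G) h).elim
  · exact (false_of_sylowOpts_nil hG 11 2 36 (by norm_num) (by norm_num) (by rw [h]; norm_num) (by norm_num) (by decide +kernel)).elim
  · exact (false_of_primeOpts_nil hG 13 336 (by norm_num) (by norm_num) (by rw [h]) (by norm_num) (by decide +kernel)).elim
  · exact (not_4400 hG h).elim
  · exact (false_of_prq hG 5 2 7 7 (by norm_num) (by norm_num) (by norm_num) (by norm_num) (by norm_num) (by norm_num) (by rw [h]; norm_num) (by rw [h]; norm_num) (by rw [h]; norm_num)).elim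
  · exact (not_4500 hG h).elim
  · exact (not_4536 hG h).elim
  · exact (false_of_prq hG 11 2 13 5 (by norm_num) (by norm_num) (by norm_num) (by norm_num) (by norm_num) (by norm_num) (by rw [h]; norm_num) (by rw [h]; norm_num) (by rw [h]; norm_num)).elim
  · exact (false_of_two_primes hG 2 3 9 2 (by norm_num) (by norm_num) (by rw [h]; norm_num)).elim
  · exact (not_4620 hG h).elim
  · exact (not_4680 hG h).elim
  · exact (false_of_sylowOpts_nil hG 7 2 96 (by norm_num) (by norm_num) (by rw [h]; norm_num) (by norm_num) (by decide +kernel)).elim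
  · exact (false_of_klein hG (by rw [h]; norm_num) (by rw [h]; norm_num) (by rw [h]; norm_num)).elim
  · exact (false_of_primeOpts_nil hG 11 432 (by norm_num) (by norm_num) (by rw [h]) (by norm_num) (by decide +kernel)).elim
  · exact (not_4800 hG h).elim
  · exact (false_of_sylowOpts_nil hG 11 2 40 (by norm_num) (by norm_num) (by rw [h]; norm_num) (by norm_num) (by decide +kernel)).elim
  · exact (false_of_sylowOpts_nil hG 3 5 20 (by norm_num) (by norm_num) (by rw [h]; norm_num) (by norm_num) (by decide +kernel)).elim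
  · exact (false_of_klein hG (by rw [h]; norm_num) (by rw [h]; norm_num) (by rw [h]; norm_num)).elim
  · exact (false_of_prq hG 7 2 11 6 (by norm_num) (by norm_num) (by norm_num) (by norm_num) (by norm_num) (by norm_num) (by rw [h]; norm_num) (by rw [h]; norm_num) (by rw [h]; norm_num)).elim
  · exact (false_of_prq hG 3 2 13 7 (by norm_num) (by norm_num) (by norm_num) (by norm_num) (by norm_num) (by norm_num) (by rw [h]; norm_num) (by rw [h]; norm_num) (by rw [h]; norm_num)).elim
  · exact (false_of_two_primes hG 2 5 3 4 (by norm_num) (by norm_num) (by rw [h]; norm_num)).elim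
  · exact (S0978.result (G := G) h).elim
  · exact (false_of_sylowOpts_nil hG 7 2 104 (by norm_num) (by norm_num) (by rw [h]; norm_num) (by norm_num) (by decide +kernel)).elim
  · exact (false_of_sylowOpts_nil hG 17 1 300 (by norm_num) (by norm_num) (by rw [h]; norm_num) (by norm_num) (by decide +kernel)).elim
  · exact (false_of_two_primes hG 2 5 10 1 (by norm_num) (by norm_num) (by rw [h]; norm_num)).elim
  · exact (not_5148 hG h).elim
  · exact (false_of_two_primes hG 2 3 6 4 (by norm_num) (by norm_num) (by rw [h]; norm_num)).elim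
  · exact (false_of_primeOpts_nil hG 13 400 (by norm_num) (by norm_num) (by rw [h]) (by norm_num) (by decide +kernel)).elim
  · exact (false_of_klein hG (by rw [h]; norm_num) (by rw [h]; norm_num) (by rw [h]; norm_num)).elim
  · exact (false_of_primeOpts_nil hG 11 480 (by norm_num) (by norm_num) (by rw [h]) (by norm_num) (by decide +kernel)).elim
  · exact (not_5292 hG h).elim
  · exact (false_of_sylowOpts_nil hG 13 1 408 (by norm_num) (by norm_num) (by rw [h]; norm_num) (by norm_num) (by decide +kernel)).elim
  · exact (false_of_two_primes hG 2 11 2 3 (by norm_num) (by norm_num) (by rw [h]; norm_num)).elim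
  · exact (false_of_prq hG 3 2 7 8 (by norm_num) (by norm_num) (by norm_num) (by norm_num) (by norm_num) (by norm_num) (by rw [h]; norm_num) (by rw [h]; norm_num) (by rw [h]; norm_num)).elim
  · exact (not_5400 hG h).elim
  · exact (false_of_two_primes hG 2 13 5 2 (by norm_num) (by norm_num) (by rw [h]; norm_num)).elim
  · exact (false_of_prq hG 5 2 17 6 (by norm_num) (by norm_num) (by norm_num) (by norm_num) (by norm_num) (by norm_num) (by rw [h]; norm_num) (by rw [h]; norm_num) (by rw [h]; norm_num)).elim
  · exact (not_5460 hG h).elim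
  · exact (false_of_two_primes hG 2 7 4 3 (by norm_num) (by norm_num) (by rw [h]; norm_num)).elim
  · exact (false_of_klein hG (by rw [h]; norm_num) (by rw [h]; norm_num) (by rw [h]; norm_num)).elim
  · exact (false_of_primeOpts_nil hG 17 324 (by norm_num) (by norm_num) (by rw [h]) (by norm_num) (by decide +kernel)).elim
  · exact (false_of_primeOpts_nil hG 11 504 (by norm_num) (by norm_num) (by rw [h]) (by norm_num) (by decide +kernel)).elim
  · exact (not_5600 hG h).elim
  · exact Or.inr (Or.inl rfl)
  · exact (false_of_two_primes hG 2 11 9 1 (by norm_num) (by norm_num) (by rw [h]; norm_num)).elim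
  · exact (false_of_sylowOpts_nil hG 17 1 336 (by norm_num) (by norm_num) (by rw [h]; norm_num) (by norm_num) (by decide +kernel)).elim
  · exact (false_of_sylowOpts_nil hG 11 1 520 (by norm_num) (by norm_num) (by rw [h]; norm_num) (by norm_num) (by decide +kernel)).elim
  · exact (S0980.result (G := G) h).elim
  · exact (false_of_klein hG (by rw [h]; norm_num) (by rw [h]; norm_num) (by rw [h]; norm_num)).elim
  · exact (false_of_sylowOpts_nil hG 11 2 48 (by norm_num) (by norm_num) (by rw [h]; norm_num) (by norm_num) (by decide +kernel)).elim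
  · exact (false_of_prq hG 7 2 13 6 (by norm_num) (by norm_num) (by norm_num) (by norm_num) (by norm_num) (by norm_num) (by rw [h]; norm_num) (by rw [h]; norm_num) (by rw [h]; norm_num)).elim
  · exact (false_of_two_primes hG 2 3 3 6 (by norm_num) (by norm_num) (by rw [h]; norm_num)).elim
  · exact (not_5880 hG h).elim
  · exact (not_5940 hG h).elim
  · exact (false_of_prq hG 11 2 17 5 (by norm_num) (by norm_num) (by norm_num) (by norm_num) (by norm_num) (by norm_num) (by rw [h]; norm_num) (by rw [h]; norm_num) (by rw [h]; norm_num)).elim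
  · exact (not_6000 hG h).elim
  · exact Or.inr (Or.inr (Or.inl rfl))
  · exact (false_of_sylowOpts_nil hG 13 2 36 (by norm_num) (by norm_num) (by rw [h]; norm_num) (by norm_num) (by decide +kernel)).elim
  · exact (false_of_primeOpts_nil hG 17 360 (by norm_num) (by norm_num) (by rw [h]) (by norm_num) (by decide +kernel)).elim
  · exact (false_of_two_primes hG 2 3 11 1 (by norm_num) (by norm_num) (by rw [h]; norm_num)).elim
  · exact (false_of_primeOpts_nil hG 7 880 (by norm_num) (by norm_num) (by rw [h]) (by norm_num) (by decide +kernel)).elim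
  · exact (false_of_klein hG (by rw [h]; norm_num) (by rw [h]; norm_num) (by rw [h]; norm_num)).elim

end Cfsg.Agent.H28.Range6232
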