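import Cfsg.Agent.H28.SmallOrders.Range.Helpers
import Cfsg.Agent.S1001

/-!
# Excluded orders, part A
-/

set_option autoImplicit false
set_option synthInstance.maxSize 1024

namespace Cfsg.Agent.H28.Range6232

open Subgroup MulAction

variable {G : Type*} [Group G] [Finite G] [IsSimpleGroup G]

theorem not_3696 (hG : ¬ IsMulCommutative G) (h : Nat.card G = 3696) : False := by
  have : Fact (Nat.Prime 11) := ⟨by norm_num⟩
  have : Fact (Nat.Prime 3) := ⟨by norm_num⟩
  obtain ⟨hP, n, e, K, hm, hd⟩ := prime_options hG 11 336 (by norm_num) (by rw [h]) (by norm_num)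
    (default : Sylow 11 G)
  obtain ⟨hQ, n', e', K', hm', hd'⟩ := prime_options hG 3 1232 (by norm_num) (by rw [h])
    (by norm_num) (default : Sylow 3 G)
  obtain ⟨-, -, -, -, -, -, -, -, hC, -, -, -⟩ := hd
  obtain ⟨-, -, -, -, -, -, -, -, hC', -, -, -⟩ := hd'
  have h1 : ∀ t ∈ primeOpts 11 336, t.2.2 % 3 = 0 := by decide +kernel
  have h2 : ∀ t ∈ primeOpts 3 1232, (3 * t.2.2) % 11 ≠ 0 := by decide +kernel
  have hK : K % 3 = 0 := h1 _ hm
  have := dual_dvd (default : Sylow 11 G) (default : Sylow 3 G) hP hQ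
    (by rw [hC]; omega)
  rw [hC'] at this
  exact h2 _ hm' (Nat.mod_eq_zero_of_dvd this)

theorem not_3780 (hG : ¬ IsMulCommutative G) (h : Nat.card G = 3780) : False := by
  have : Fact (Nat.Prime 7) := ⟨by norm_num⟩
  have : Fact (Nat.Prime 5) := ⟨by norm_num⟩
  obtain ⟨hP, n, e, K, hm, hd⟩ := prime_options hG 7 540 (by norm_num) (by rw [h]) (by norm_num)
    (default : Sylow 7 G)
  obtain ⟨hQ, n', e', K', hm', hd'⟩ := prime_options hG 5 756 (by norm_num) (by rw [h])
    (by norm_num) (default : Sylow 5 G)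
  obtain ⟨-, -, -, -, -, -, -, -, hC, -, -, -⟩ := hd
  obtain ⟨-, -, -, -, -, -, -, -, hC', -, -, -⟩ := hd'
  have h1 : ∀ t ∈ primeOpts 7 540, t.2.2 % 5 = 0 := by decide +kernel
  have h2 : ∀ t ∈ primeOpts 5 756, (5 * t.2.2) % 7 ≠ 0 := by decide +kernel
  have hK : K % 5 = 0 := h1 _ hm
  have := dual_dvd (default : Sylow 7 G) (default : Sylow 5 G) hP hQ
    (by rw [hC]; omega)
  rw [hC'] at this
  exact h2 _ hm' (Nat.mod_eq_zero_of_dvd this)

theorem not_4212 (hG : ¬ IsMulCommutative G) (h : Nat.card G = 4212) : False := by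
  have : Fact (Nat.Prime 13) := ⟨by norm_num⟩
  obtain ⟨hP, n, e, K, hm, hd⟩ := prime_options hG 13 324 (by norm_num) (by rw [h]) (by norm_num)
    (default : Sylow 13 G)
  have h1 : ∀ t ∈ primeOpts 13 324, t.2.1 % 4 = 0 := by decide +kernel
  exact automizer_ne_four hG (by rw [h]; norm_num) (by rw [h]; norm_num) _ hP hd
    (Nat.dvd_of_mod_eq_zero (h1 _ hm))

theorem not_4536 (hG : ¬ IsMulCommutative G) (h : Nat.card G = 4536) : False := by
  have : Fact (Nat.Prime 7) := ⟨by norm_num⟩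
  obtain ⟨hP, n, e, K, hm, hd⟩ := prime_options hG 7 648 (by norm_num) (by rw [h]) (by norm_num)
    (default : Sylow 7 G)
  obtain ⟨-, -, -, -, -, -, -, -, hC, -, -, -⟩ := hd
  obtain ⟨x, hx, hxP⟩ := exists_generator (default : Sylow 7 G) hP
  have hc := S1001.result (G := G) 7 4 3 (by norm_num) (by rw [h]; norm_num) x hx
  rw [centralizer_of_zpowers hxP, hc, Nat.card_zpowers, hx] at hC
  have h1 : ∀ t ∈ primeOpts 7 648, t.2.2 ≠ 1 := by decide +kernel
  exact h1 _ hm (show K = 1 by omega)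

/-- Orders divisible exactly by `5 ^ 3` with too few subgroups. -/
theorem not_five_cubed (hG : ¬ IsMulCommutative G) {m : ℕ}
    (hcard : Nat.card G = 5 ^ 3 * m) (hm : ¬ 5 ∣ m)
    (h1 : ∀ s ∈ sylowOpts 5 (5 ^ 3 * m) m, s % 25 ≠ 1)
    (h2 : ∀ t ∈ subOpts (5 ^ 3 * m) 125, t.1 / 125 < 6) : False := by
  have : Fact (Nat.Prime 5) := ⟨by norm_num⟩
  obtain ⟨H, Q, R, hH, hne, hQ, hQH, hRH⟩ := exists_intersection_normalizer hG hcard hm
    (h1 _ (sylow_options hG 5 3 m hcard (by norm_num) hm))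
  obtain ⟨k, hk, hk5, hk1, -, hdvd⟩ := sylow_count_two Q R hne H hQH hRH
  rw [hQ] at hdvd
  have hmem := mem_subOpts hG hcard H hH (show 125 ∣ Nat.card H from
    (dvd_mul_left (5 ^ 3) k).trans hdvd)
  have h3 : Nat.card H / 125 < 6 := h2 _ hmem
  obtain ⟨j, hj⟩ := hdvd
  have h5 : 5 ^ 3 = 125 := by norm_num
  rw [hj, h5, show k * 125 * j = 125 * (k * j) by ring, Nat.mul_div_cancel_left _ (by norm_num)] at h3
  have hj0 : 0 < j := by
    rcases Nat.eq_zero_or_pos j with h | h
    · rw [h, mul_zero] at hj; exact absurd hj Nat.card_pos.ne'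
    · exact h
  nlinarith [show 6 ≤ k by omega]

theorem not_4500 (hG : ¬ IsMulCommutative G) (h : Nat.card G = 4500) : False :=
  not_five_cubed hG (m := 36) (by rw [h]; norm_num) (by norm_num) (by decide +kernel)
    (by decide +kernel)

theorem not_6000 (hG : ¬ IsMulCommutative G) (h : Nat.card G = 6000) : False :=
  not_five_cubed hG (m := 48) (by rw [h]; norm_num) (by norm_num) (by decide +kernel)
    (by decide +kernel)

theorem not_5292 (hG : ¬ IsMulCommutative G) (h : Nat.card G = 5292) : False := by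
  have : Fact (Nat.Prime 7) := ⟨by norm_num⟩
  have hcard : Nat.card G = 7 ^ 2 * 108 := by rw [h]; norm_num
  have h1 : ∀ s ∈ sylowOpts 7 (7 ^ 2 * 108) 108, s % 7 ^ 2 ≠ 1 := by decide +kernel
  obtain ⟨d, Q, R, hd, -, -, hne, -, hQ, hQH, hRH⟩ := exists_common_element hcard (by norm_num)
    (h1 _ (sylow_options hG 7 2 108 hcard (by norm_num) (by norm_num)))
  obtain ⟨k, -, hk7, hk1, -, hdvd⟩ := sylow_count_two Q R hne _ hQH hRH
  have hd1 : d ≠ 1 := fun hh => by rw [hh, orderOf_one] at hd; omega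
  rw [hQ] at hdvd
  have hmem := mem_subOpts hG h _ (centralizer_ne_top hG hd1)
    ((dvd_mul_left (7 ^ 2) k).trans hdvd)
  have h2 : ∀ t ∈ subOpts 5292 (7 ^ 2), ∀ k < 109, k % 7 = 1 → 1 < k →
      ¬ k * 7 ^ 2 ∣ t.1 := by decide +kernel
  have hk : k < 109 := by
    have := Nat.le_of_dvd (by norm_num) (hdvd.trans (h ▸ card_subgroup_dvd_card _))
    omega
  exact h2 _ hmem k hk hk7 hk1 hdvd

/-- Orders `2^a * 3 * 5^2 * 7`, `2^5 * 5^2 * 7`: an involution centralising a Sylow 7-subgroup. -/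
theorem not_seven_involution (hG : ¬ IsMulCommutative G) {m : ℕ}
    (hcard : Nat.card G = 5 ^ 2 * m) (hm : ¬ 5 ∣ m) {x u : G} (hx : orderOf x = 7)
    (hu : orderOf u = 2) (hc : Commute x u)
    (hn : ∀ s ∈ sylowOpts 5 (5 ^ 2 * m) m, s % 5 ^ 2 ≠ 1 ∨
      (5 ^ 2 * m / s) % 7 ≠ 0 ∧ s * (5 ^ 2 * m / s) = 5 ^ 2 * m ∧
        (List.range s).all (fun f => f % 4 != s % 4 || f % 7 != 0) = true)
    (hH : ∀ t ∈ subOpts (5 ^ 2 * m) (5 ^ 2), ∀ k < m + 1, k % 5 = 1 → 1 < k → k * 5 ^ 2 ∣ t.1 →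
      (t.1 = 2 * (t.1 / 2) ∧ (t.1 / 2) % 2 = 1 ∧ k % 2 = 0) ∨
      t.1 % 7 ≠ 0 ∧ (List.range t.2).all (fun f => f % 4 != t.2 % 4 || f % 7 != 0) = true) :
    False := by
  have : Fact (Nat.Prime 5) := ⟨by norm_num⟩
  have : Fact (Nat.Prime 7) := ⟨by norm_num⟩
  rcases hn _ (sylow_options hG 5 2 m hcard (by norm_num) hm) with h1 | ⟨h7, hmul, hall⟩
  · obtain ⟨d, Q, R, hd, -, -, hne, -, hQ, hQH, hRH⟩ := exists_common_element hcard hm h1
    obtain ⟨k, hk, hk5, hk1, -, hdvd⟩ := sylow_count_two Q R hne _ hQH hRH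
    have hd1 : d ≠ 1 := fun hh => by rw [hh, orderOf_one] at hd; omega
    rw [hQ] at hdvd
    have hmem := mem_subOpts hG hcard _ (centralizer_ne_top hG hd1)
      ((dvd_mul_left (5 ^ 2) k).trans hdvd)
    have hkm : k < m + 1 := by
      have := Nat.le_of_dvd (hcard ▸ Nat.card_pos) (hdvd.trans (hcard ▸ card_subgroup_dvd_card _))
      omega
    rcases hH _ hmem k hkm hk5 hk1 hdvd with ⟨heq, hodd, heven⟩ | ⟨h7, hall⟩
    · exact odd_card_sylow (p := 5) (by norm_num) heq (by omega)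
        (hk ▸ Nat.dvd_of_mod_eq_zero heven)
    · exact no_involution hG hx hu hc _ (centralizer_ne_top hG hd1)
        (fun hh => h7 (Nat.mod_eq_zero_of_dvd hh)) _ rfl hall
  · let Q : Sylow 5 G := default
    have hidx : (normalizer ((Q : Subgroup G) : Set G)).index = Nat.card (Sylow 5 G) :=
      Q.card_eq_index_normalizer.symm
    have hN := H30.card_sylow_mul_normalizer 5 Q
    rw [hcard, ← hmul] at hN
    have hN' := Nat.eq_of_mul_eq_mul_left Nat.card_pos hN
    refine no_involution hG hx hu hc _ ?_ ?_ _ hidx hall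
    · intro hh
      rw [hh, index_top] at hidx
      exact H30.card_sylow_ne_one hG 5 (hcard ▸ dvd_mul_of_dvd_left (dvd_pow_self 5 two_ne_zero) m)
        hidx.symm
    · rw [hN']
      exact fun hh => h7 (Nat.mod_eq_zero_of_dvd hh)

theorem not_4200 (hG : ¬ IsMulCommutative G) (h : Nat.card G = 4200) : False := by
  have : Fact (Nat.Prime 7) := ⟨by norm_num⟩
  have : Fact (Nat.Prime 2) := ⟨Nat.prime_two⟩
  obtain ⟨hP, n, e, K, hm, hd⟩ := prime_options hG 7 600 (by norm_num) (by rw [h]) (by norm_num)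
    (default : Sylow 7 G)
  obtain ⟨-, -, -, -, -, -, -, -, hC, -, -, -⟩ := hd
  have h1 : ∀ t ∈ primeOpts 7 600, t.2.2 % 2 = 0 := by decide +kernel
  have hK : K % 2 = 0 := h1 _ hm
  obtain ⟨x, u, hx, -, hu, hc, -⟩ := exists_commuting (q := 2) (default : Sylow 7 G) hP
    (by rw [hC]; omega)
  exact not_seven_involution hG (m := 168) (by rw [h]; norm_num) (by norm_num) hx hu hc
    (by decide +kernel) (by decide +kernel)

theorem not_5600 (hG : ¬ IsMulCommutative G) (h : Nat.card G = 5600) : False := by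
  have : Fact (Nat.Prime 7) := ⟨by norm_num⟩
  have : Fact (Nat.Prime 2) := ⟨Nat.prime_two⟩
  obtain ⟨hP, n, e, K, hm, hd⟩ := prime_options hG 7 800 (by norm_num) (by rw [h]) (by norm_num)
    (default : Sylow 7 G)
  obtain ⟨-, -, -, -, -, -, -, -, hC, hN, -, -⟩ := hd
  have h1 : ∀ t ∈ primeOpts 7 800, t.2.2 % 2 = 0 ∨ t.2.2 = 1 ∧ t.2.1 = 2 := by decide +kernel
  rcases h1 _ hm with hK | ⟨hK, he⟩
  · replace hK : K % 2 = 0 := hK
    obtain ⟨x, u, hx, -, hu, hc, -⟩ := exists_commuting (q := 2) (default : Sylow 7 G) hP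
      (by rw [hC]; omega)
    exact not_seven_involution hG (m := 224) (by rw [h]; norm_num) (by norm_num) hx hu hc
      (by decide +kernel) (by decide +kernel)
  · simp only at hK he
    obtain ⟨x, hx2, hxp, hxd, hDd, hD2, hsq, -⟩ := equation_data hG (by norm_num) h
      (default : Sylow 7 G) hP (by rw [hC, hK]) (by rw [hN, hK, he])
    norm_num at hsq
    have hxle : x.natAbs < 75 := by
      by_contra hc
      have h64 : (75 : ℤ) ^ 2 ≤ ((x.natAbs : ℕ) : ℤ) ^ 2 :=
        pow_le_pow_left₀ (by norm_num) (by exact_mod_cast (by omega : 75 ≤ x.natAbs)) 2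
      rw [Int.natAbs_sq] at h64
      nlinarith [sq_nonneg (1 - x)]
    have hall1 : ∀ a < 75, a ∣ 5600 → 2 ≤ a → a % 7 = 6 → a - 1 ∣ 5600 → False := by
      decide +kernel
    have hall2 : ∀ a < 75, a ∣ 5600 → 2 ≤ a → a % 7 = 1 → a + 1 ∣ 5600 →
        4 * a * a < 5600 → False := by decide +kernel
    rcases le_or_gt 0 x with hx0 | hx0
    · rw [show (1 - x).natAbs = x.natAbs - 1 by omega] at hDd
      exact hall1 x.natAbs hxle hxd hx2 (by omega) hDd
    · rw [show (1 - x).natAbs = x.natAbs + 1 by omega] at hDd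
      refine hall2 x.natAbs hxle hxd hx2 (by omega) hDd ?_
      have h2 : (4 : ℤ) * x.natAbs * x.natAbs < 5600 := by
        have : ((x.natAbs : ℕ) : ℤ) = -x := by omega
        rw [this]
        nlinarith
      exact_mod_cast h2

theorem not_4680 (hG : ¬ IsMulCommutative G) (h : Nat.card G = 4680) : False := by
  have : Fact (Nat.Prime 13) := ⟨by norm_num⟩
  have : Fact (Nat.Prime 5) := ⟨by norm_num⟩
  have : Fact (Nat.Prime 3) := ⟨by norm_num⟩
  obtain ⟨hP, n, e, K, hm, hd⟩ := prime_options hG 13 360 (by norm_num) (by rw [h]) (by norm_num)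
    (default : Sylow 13 G)
  obtain ⟨-, -, -, -, -, -, -, -, hC, -, -, -⟩ := hd
  have h1 : ∀ t ∈ primeOpts 13 360, t.2.2 % 3 = 0 := by decide +kernel
  have hK : K % 3 = 0 := h1 _ hm
  obtain ⟨x, w, hx, -, hw, hc, -⟩ := exists_commuting (q := 3) (default : Sylow 13 G) hP
    (by rw [hC]; omega)
  have key : ∀ H : Subgroup G, H ≠ ⊤ → H.index ≤ 26 → ¬ 13 ∣ Nat.card H → False := by
    intro H hH hidx h13
    have := commute_fix H hH (by norm_num) (by norm_num) (by norm_num) hx hw hc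
      (by rw [card_fixed_eq_zero H hx h13]; norm_num)
    omega
  obtain ⟨hQ, n', e', K', hm', hn', hmul, -, -, hn1, -, -, -, hC', hN', -, -⟩ :=
    prime_options hG 5 936 (by norm_num) (by rw [h]) (by norm_num) (default : Sylow 5 G)
  have h2 : ∀ t ∈ primeOpts 5 936, t.1 = 26 ∧ t.2.1 * t.2.2 = 36 ∨
      t.2.2 % 3 = 0 ∧ t.2.1 * t.2.2 = 6 := by decide +kernel
  rcases h2 _ hm' with ⟨hn26, hek⟩ | ⟨hK3, hek⟩
  · simp only at hn26 hek
    have hidx : (normalizer (((default : Sylow 5 G) : Subgroup G) : Set G)).index = 26 := by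
      rw [← hn26, ← hn']; exact (default : Sylow 5 G).card_eq_index_normalizer.symm
    refine key _ (fun hh => by rw [hh, index_top] at hidx; omega) hidx.le ?_
    rw [hN', hek]; norm_num
  · simp only at hK3 hek
    obtain ⟨y, hy, hdvd⟩ := H30.exists_centralizer_dvd 5 3 520 (by norm_num)
      (default : Sylow 5 G) hQ (by rw [h]; norm_num) (by norm_num) (by rw [hC']; omega)
    norm_num at hdvd
    obtain ⟨S, z, hS, -, -, -⟩ := exists_sylow_le (fun P => (prime_options hG 5 936 (by norm_num)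
      (by rw [h]) (by norm_num) P).1) (centralizer ({y} : Set G))
      ((show 5 ∣ 45 by norm_num).trans hdvd)
    obtain ⟨k, t, hk, -, hk5, hHkt, ht, ht5⟩ := sylow_count_one S _ hS
    have hSN : Nat.card (normalizer ((S : Subgroup G) : Set G)) = 30 := by
      have h3 := H30.card_sylow_mul_normalizer 5 S
      have h4 := H30.card_sylow_mul_normalizer 5 (default : Sylow 5 G)
      rw [← h4] at h3
      rw [Nat.eq_of_mul_eq_mul_left Nat.card_pos h3, hN', hek]
    rw [hSN] at ht
    rw [show Nat.card (S : Subgroup G) = 5 from (prime_options hG 5 936 (by norm_num)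
      (by rw [h]) (by norm_num) S).1] at ht5
    have hmem := mem_subOpts hG h _ (centralizer_ne_top hG hy) hdvd
    have h5 : ∀ c ∈ subOpts 4680 45, c.2 ≤ 26 ∧ c.1 % 13 ≠ 0 ∨
        ∀ t < 31, t ∣ 30 → 5 ∣ t → c.1 % t = 0 → (c.1 / t) % 5 = 1 →
          c.1 = 90 ∧ (c.1 / t) % 2 = 0 := by decide +kernel
    rcases h5 _ hmem with ⟨hidx, h13⟩ | hall
    · exact key _ (centralizer_ne_top hG hy) hidx (fun hh => h13 (Nat.mod_eq_zero_of_dvd hh))
    · simp only at hall
      have htp : 0 < t := Nat.pos_of_dvd_of_pos ht (by norm_num)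
      have hdiv : Nat.card (centralizer ({y} : Set G)) / t = k := by
        rw [hHkt, Nat.mul_div_cancel _ htp]
      have h6 := hall t (by have := Nat.le_of_dvd (by norm_num) ht; omega) ht ht5
        (by rw [hHkt]; exact Nat.mul_mod_left _ _) (by rw [hdiv]; exact hk5)
      rw [hdiv] at h6
      exact odd_card_sylow (p := 5) (X := centralizer ({y} : Set G)) (m := 45) (by norm_num)
        (by rw [h6.1]) (by norm_num) (hk ▸ Nat.dvd_of_mod_eq_zero h6.2)

theorem not_5148 (hG : ¬ IsMulCommutative G) (h : Nat.card G = 5148) : False := by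
  have : Fact (Nat.Prime 11) := ⟨by norm_num⟩
  have : Fact (Nat.Prime 3) := ⟨by norm_num⟩
  obtain ⟨hP, n, e, K, hm, hn, -, -, -, -, -, -, -, hC, hN, -, -⟩ :=
    prime_options hG 11 468 (by norm_num) (by rw [h]) (by norm_num) (default : Sylow 11 G)
  have h1 : ∀ t ∈ primeOpts 11 468, t.2.2 % 3 = 0 ∧ t.2.1 * t.2.2 = 6 := by decide +kernel
  obtain ⟨hK, hek⟩ := h1 _ hm
  simp only at hK hek
  obtain ⟨x, w, hx, -, hw, hc, -⟩ := exists_commuting (q := 3) (default : Sylow 11 G) hP
    (by rw [hC]; omega)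
  obtain ⟨y, hy, hdvd⟩ := H30.exists_centralizer_dvd 11 3 572 (by norm_num)
    (default : Sylow 11 G) hP (by rw [h]; norm_num) (by norm_num) (by rw [hC]; omega)
  norm_num at hdvd
  obtain ⟨S, z, hS, -, -, -⟩ := exists_sylow_le (fun P => (prime_options hG 11 468 (by norm_num)
    (by rw [h]) (by norm_num) P).1) (centralizer ({y} : Set G))
    ((show 11 ∣ 99 by norm_num).trans hdvd)
  obtain ⟨k, t, -, -, hk11, hHkt, ht, ht11⟩ := sylow_count_one S _ hS
  have hSN : Nat.card (normalizer ((S : Subgroup G) : Set G)) = 66 := by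
    have h3 := H30.card_sylow_mul_normalizer 11 S
    have h4 := H30.card_sylow_mul_normalizer 11 (default : Sylow 11 G)
    rw [← h4] at h3
    rw [Nat.eq_of_mul_eq_mul_left Nat.card_pos h3, hN, hek]
  rw [hSN] at ht
  rw [show Nat.card (S : Subgroup G) = 11 from (prime_options hG 11 468 (by norm_num)
    (by rw [h]) (by norm_num) S).1] at ht11
  have hmem := mem_subOpts hG h _ (centralizer_ne_top hG hy) hdvd
  have h5 : ∀ c ∈ subOpts 5148 99, c.2 = 13 ∨
      ∀ t < 67, t ∣ 66 → 11 ∣ t → c.1 % t = 0 → (c.1 / t) % 11 ≠ 1 := by decide +kernel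
  have htp : 0 < t := Nat.pos_of_dvd_of_pos ht (by norm_num)
  rcases h5 _ hmem with hidx | hall
  · simp only at hidx
    have hH := centralizer_ne_top hG hy
    set H := centralizer ({y} : Set G) with hHdef
    -- `x` fixes two cosets
    have hmod := card_modEq_fixed (p := 11) (X := G ⧸ H) (g := x) (hx ▸ pow_orderOf_eq_one x)
      Set.univ (fun _ _ => Set.mem_univ _)
    rw [Set.univ_inter, Set.ncard_univ, ← index_eq_card, hidx, ← Nat.card_coe_set_eq] at hmod
    obtain ⟨a, ha⟩ := exists_moved H hH (g := x) fun hh => by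
      rw [hh, orderOf_one] at hx; omega
    have hlt : Nat.card (fixedBy (G ⧸ H) x) < 13 := by
      rw [Nat.card_coe_set_eq, ← hidx, index_eq_card, ← Set.ncard_univ]
      exact Set.ncard_lt_ncard (Set.ssubset_univ_iff.mpr fun hh =>
        ha (hh ▸ Set.mem_univ a : a ∈ fixedBy (G ⧸ H) x)) (Set.toFinite _)
    have := commute_fix H hH (by norm_num) (by norm_num) (by norm_num) hx hw hc (by omega)
    omega
  · simp only at hall
    refine hall t (by have := Nat.le_of_dvd (by norm_num) ht; omega) ht ht11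
      (by rw [hHkt]; exact Nat.mul_mod_left _ _) ?_
    rw [hHkt, Nat.mul_div_cancel _ htp]
    exact hk11

theorem not_5940 (hG : ¬ IsMulCommutative G) (h : Nat.card G = 5940) : False := by
  have : Fact (Nat.Prime 11) := ⟨by norm_num⟩
  have : Fact (Nat.Prime 3) := ⟨by norm_num⟩
  have : Fact (Nat.Prime 2) := ⟨Nat.prime_two⟩
  set P : Sylow 11 G := default
  obtain ⟨hP, n, e, K, hm, hn, -, -, -, -, -, -, -, hC, hN, -, -⟩ :=
    prime_options hG 11 540 (by norm_num) (by rw [h]) (by norm_num) P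
  have h1 : ∀ t ∈ primeOpts 11 540, t.1 = 45 ∧ t.2.2 = 6 := by decide +kernel
  obtain ⟨hn45, hK⟩ := h1 _ hm
  simp only at hn45 hK
  subst hK
  set C := centralizer ((P : Subgroup G) : Set G) with hCdef
  set N := normalizer ((P : Subgroup G) : Set G) with hNdef
  have hidx : N.index = 45 := by rw [← hn45, ← hn]; exact P.card_eq_index_normalizer.symm
  have hNtop : N ≠ ⊤ := fun hh => by rw [hh, index_top] at hidx; omega
  obtain ⟨x, hx, hxP⟩ := exists_generator P hP
  have hcommx : ∀ g ∈ C, Commute x g := fun g hg =>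
    mem_centralizer_iff.mp hg x (hxP ▸ mem_zpowers x)
  -- the normal subgroup of order three of `C`
  let T : Sylow 3 C := default
  have hT : Nat.card (T : Subgroup C) = 3 := by
    simpa using H30.card_sylow_subgroup (a := 1) (m := 22) T (by rw [hC]; norm_num) (by norm_num)
  have hTnormal : (T : Subgroup C).Normal := by
    have hmul := H30.card_sylow_mul_normalizer 3 T
    rw [hC] at hmul
    have hPle : (P : Subgroup G) ≤ C := by
      have : IsCyclic (P : Subgroup G) := isCyclic_of_prime_card hP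
      have : IsMulCommutative (P : Subgroup G) := IsCyclic.isMulCommutative
      exact le_centralizer _
    have hx11 : orderOf (⟨x, hPle (hxP ▸ mem_zpowers x)⟩ : C) = 11 := by rw [orderOf_mk, hx]
    have h11 : 11 ∣ Nat.card (normalizer ((T : Subgroup C) : Set C)) := by
      have hmem : (⟨x, hPle (hxP ▸ mem_zpowers x)⟩ : C) ∈ normalizer ((T : Subgroup C) : Set C) := by
        refine centralizer_le_normalizer _ (mem_centralizer_iff.mpr fun y _ => Subtype.ext ?_)
        exact (hcommx y.1 y.2).eq.symm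
      have := orderOf_dvd_natCard (⟨_, hmem⟩ : normalizer ((T : Subgroup C) : Set C))
      rwa [orderOf_mk, hx11] at this
    have h3 : 3 ∣ Nat.card (normalizer ((T : Subgroup C) : Set C)) :=
      (dvd_of_eq hT.symm).trans (card_dvd_of_le le_normalizer)
    have hmod : Nat.card (Sylow 3 C) % 3 = 1 := by
      have := card_sylow_modEq_one 3 C
      rwa [Nat.ModEq, Nat.mod_eq_of_lt (by norm_num : 1 < 3)] at this
    have h33 : 33 ∣ Nat.card (normalizer ((T : Subgroup C) : Set C)) :=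
      Nat.Coprime.mul_dvd_of_dvd_of_dvd (by norm_num : Nat.Coprime 3 11) h3 h11
    obtain ⟨j, hj⟩ := h33
    rw [hj] at hmul
    have hone : Nat.card (Sylow 3 C) = 1 := by
      have h2 : Nat.card (Sylow 3 C) * j = 2 := by linarith
      have := Nat.le_of_dvd (by norm_num) (Dvd.intro _ h2)
      omega
    have := (Nat.card_eq_one_iff_unique.mp hone).1
    exact Sylow.normal_of_subsingleton T
  obtain ⟨w, hw⟩ := exists_prime_orderOf_dvd_card' (G := (T : Subgroup C)) 3 (dvd_of_eq hT.symm)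
  rw [← orderOf_coe] at hw
  obtain ⟨u, hu⟩ := exists_prime_orderOf_dvd_card' (G := C) 2 (by rw [hC]; norm_num)
  have hTz : zpowers (w : C) = (T : Subgroup C) :=
    eq_of_le_of_card_ge (zpowers_le.mpr w.2) (by rw [hT, Nat.card_zpowers, hw])
  obtain ⟨i, hi⟩ : ∃ i : ℤ, (w : C) ^ i = u⁻¹ * (w : C) * u := by
    have := hTnormal.conj_mem _ w.2 u⁻¹
    rw [inv_inv] at this
    exact mem_zpowers_iff.mp ((SetLike.ext_iff.mp hTz _).mpr this)
  have hi' : ((w : C) : G) ^ i = (u : G)⁻¹ * ((w : C) : G) * (u : G) := by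
    have := congrArg Subtype.val hi
    simpa using this
  rw [← orderOf_coe] at hw hu
  set wg : G := ((w : C) : G) with hwg
  set ug : G := (u : G) with hug
  have hfx := card_fixed_sylow P hxP
  obtain ⟨c0, hc0⟩ := Set.ncard_eq_one.mp ((Nat.card_coe_set_eq _).symm.trans hfx)
  have hfixc : ∀ g ∈ C, g • c0 = c0 := by
    intro g hg
    have hx0 : x • c0 = c0 := (hc0 ▸ Set.mem_singleton c0 : c0 ∈ fixedBy (G ⧸ N) x)
    have : g • c0 ∈ fixedBy (G ⧸ N) x := by
      show x • (g • c0) = g • c0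
      rw [smul_smul, (hcommx g hg).eq, ← smul_smul, hx0]
    rwa [hc0, Set.mem_singleton_iff] at this
  set F : Set (G ⧸ N) := fixedBy (G ⧸ N) wg with hF
  have hF3 : F.ncard % 3 = 0 := by
    have := card_modEq_fixed (p := 3) (X := G ⧸ N) (g := wg) (hw ▸ pow_orderOf_eq_one wg)
      Set.univ (fun _ _ => Set.mem_univ _)
    rw [Set.univ_inter, Set.ncard_univ, ← index_eq_card, hidx] at this
    exact this.symm
  have hF11 : F.ncard % 11 = 1 := by
    have := card_modEq_fixed (p := 11) (X := G ⧸ N) (g := x) (hx ▸ pow_orderOf_eq_one x) F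
      (fun a (ha : wg • a = a) => show wg • (x • a) = x • a by
        rw [smul_smul, (hcommx wg (w : C).2).eq.symm, ← smul_smul, ha])
    rw [hc0, Set.inter_eq_right.mpr (Set.singleton_subset_iff.mpr
      (show c0 ∈ F from hfixc wg (w : C).2)), Set.ncard_singleton] at this
    omega
  obtain ⟨f, hf, hf4, hfp, hfeq⟩ := involution_fix hG N hNtop hx hu (hcommx ug u.2) hfx le_rfl
  rw [hidx] at hf hf4
  have hu1 : fixedBy (G ⧸ N) ug = {c0} := by
    have h45 : ∀ f < 45, f % 4 = 45 % 4 → f % 11 = 1 → f = 1 := by decide +kernel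
    have hone : (fixedBy (G ⧸ N) ug).ncard = 1 := by
      rw [← Nat.card_coe_set_eq, ← hfeq]; exact h45 f hf hf4 hfp
    obtain ⟨c1, hc1⟩ := Set.ncard_eq_one.mp hone
    have : c0 ∈ fixedBy (G ⧸ N) ug := hfixc ug u.2
    rw [hc1, Set.mem_singleton_iff] at this
    rw [hc1, this]
  have hF2 := card_modEq_fixed (p := 2) (X := G ⧸ N) (g := ug) (hu ▸ pow_orderOf_eq_one ug) F
    (fun a (ha : wg • a = a) => show wg • (ug • a) = ug • a by
      have hstab : ug⁻¹ * wg * ug ∈ MulAction.stabilizer G a := by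
        rw [← hi']
        exact zpow_mem (MulAction.mem_stabilizer_iff.mpr ha) i
      have h2 := MulAction.mem_stabilizer_iff.mp hstab
      rw [mul_assoc, mul_smul, mul_smul, inv_smul_eq_iff] at h2
      exact h2)
  rw [hu1, Set.inter_eq_right.mpr (Set.singleton_subset_iff.mpr
    (show c0 ∈ F from hfixc wg (w : C).2)), Set.ncard_singleton] at hF2
  have hlt : F.ncard < 45 := by
    obtain ⟨a, ha⟩ := exists_moved N hNtop (g := wg) fun hh => by
      rw [hh, orderOf_one] at hw; omega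
    rw [← hidx, index_eq_card, ← Set.ncard_univ]
    exact Set.ncard_lt_ncard (Set.ssubset_univ_iff.mpr fun hh =>
      ha (show a ∈ F from hh.symm ▸ Set.mem_univ a)) (Set.toFinite _)
  have h12 : ∀ f < 45, f % 3 = 0 → f % 11 = 1 → f % 2 ≠ 1 := by decide +kernel
  exact h12 _ hlt hF3 hF11 (by omega)

end Cfsg.Agent.H28.Range6232
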