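import Cfsg.Agent.H28.SmallOrders.Range.Opts
import Cfsg.Agent.H24.PGroupBasic
import Cfsg.Agent.H7.SelfThreeSimple

/-!
# Further counting tools
-/

set_option autoImplicit false

namespace Cfsg.Agent.H28.Range6232

open Subgroup MulAction
open scoped Pointwise

variable {G : Type*} [Group G] [Finite G]

/-- A subgroup containing a Sylow subgroup: the Sylow number and the normalizer inside. -/
theorem sylow_count_one {p : ℕ} [hp : Fact p.Prime] (P : Sylow p G) (H : Subgroup G)
    (hP : (P : Subgroup G) ≤ H) :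
    ∃ k t, k = Nat.card (Sylow p H) ∧
      t = Nat.card ↥(normalizer ((P : Subgroup G) : Set G) ⊓ H) ∧ k % p = 1 ∧
      Nat.card H = k * t ∧ t ∣ Nat.card (normalizer ((P : Subgroup G) : Set G)) ∧
      Nat.card (P : Subgroup G) ∣ t := by
  let P' : Sylow p H := P.subtype hP
  refine ⟨_, _, rfl, rfl, ?_, ?_, card_dvd_of_le inf_le_left, card_dvd_of_le (le_inf le_normalizer hP)⟩
  · have := card_sylow_modEq_one p H
    rwa [Nat.ModEq, Nat.mod_eq_of_lt hp.out.one_lt] at this
  · have h2 : normalizer ((P' : Subgroup H) : Set H) =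
        (normalizer ((P : Subgroup G) : Set G)).subgroupOf H := by
      rw [Sylow.coe_subtype, ← subgroupOf_normalizer_eq hP]
    have h3 := (normalizer ((P' : Subgroup H) : Set H)).index_mul_card
    have hi : Nat.card (Sylow p H) = (normalizer ((P' : Subgroup H) : Set H)).index :=
      P'.card_eq_index_normalizer
    rw [← hi, h2, ← inf_subgroupOf_right, Nat.card_congr (subgroupOfEquivOfLe (inf_le_right :
      normalizer ((P : Subgroup G) : Set G) ⊓ H ≤ H)).toEquiv] at h3
    exact h3.symm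

/-- A Sylow subgroup of prime order inside a subgroup of order divisible by the prime. -/
theorem exists_sylow_le {p : ℕ} [hp : Fact p.Prime] (hP : ∀ P : Sylow p G, Nat.card (P : Subgroup G) = p)
    (H : Subgroup G) (h : p ∣ Nat.card H) :
    ∃ (P : Sylow p G) (x : G), (P : Subgroup G) ≤ H ∧ orderOf x = p ∧
      zpowers x = (P : Subgroup G) ∧ x ∈ H := by
  obtain ⟨x, hx⟩ := exists_prime_orderOf_dvd_card' p h
  rw [← Subgroup.orderOf_coe] at hx
  have hz : IsPGroup p (zpowers (x : G)) :=
    IsPGroup.of_card (n := 1) (by rw [Nat.card_zpowers, hx, pow_one])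
  obtain ⟨S, hS⟩ := hz.exists_le_sylow
  have hS2 : zpowers (x : G) = (S : Subgroup G) :=
    eq_of_le_of_card_ge hS (by rw [hP S, Nat.card_zpowers, hx])
  exact ⟨S, x, hS2 ▸ zpowers_le.mpr x.2, hx, hS2, x.2⟩

/-- Sylow numbers divide the order of a normal subgroup containing the Sylow subgroup. -/
theorem card_sylow_dvd_normal {X : Type*} [Group X] [Finite X] {p : ℕ} [hp : Fact p.Prime]
    (P : Sylow p X) (N : Subgroup X) [N.Normal] (hPN : (P : Subgroup X) ≤ N) :
    Nat.card (Sylow p X) ∣ Nat.card N := by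
  have hsup := Sylow.normalizer_sup_eq_top (P.subtype hPN)
  rw [Sylow.coe_subtype] at hsup
  rw [subgroupOf_map_subtype, inf_of_le_left hPN] at hsup
  set M := normalizer ((P : Subgroup X) : Set X) with hM
  have hrel : N.relIndex M = N.index := by
    rw [← relIndex_sup_right, hsup, relIndex_top_right]
  have h1 := N.index_mul_card
  have h2 := M.index_mul_card
  have h3 : N.index * Nat.card ↥(N ⊓ M : Subgroup X) = Nat.card M := by
    have h := (N.subgroupOf M).index_mul_card
    have hc : Nat.card (N.subgroupOf M) = Nat.card ↥(N ⊓ M : Subgroup X) := by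
      rw [← inf_subgroupOf_right]
      exact Nat.card_congr (subgroupOfEquivOfLe (inf_le_right : N ⊓ M ≤ M)).toEquiv
    rw [hc] at h
    rw [← hrel]
    exact h
  have hi : Nat.card (Sylow p X) = M.index := P.card_eq_index_normalizer
  have hpos : 0 < N.index := Nat.pos_of_ne_zero index_ne_zero_of_finite
  refine ⟨Nat.card ↥(N ⊓ M : Subgroup X), Nat.eq_of_mul_eq_mul_left hpos ?_⟩
  rw [hi, h1, ← h2, ← h3]
  ring

/-- A self-centralising Sylow subgroup of order three with a larger normalizer. -/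
theorem self_three [IsSimpleGroup G] (hG : ¬ IsMulCommutative G) (P : Sylow 3 G)
    (hP : Nat.card (P : Subgroup G) = 3)
    (hC : Nat.card (centralizer ((P : Subgroup G) : Set G)) = 3) :
    Nat.card G = 60 ∨ Nat.card G = 168 := by
  have := Fact.mk Nat.prime_three
  obtain ⟨x, hx, hxP⟩ := exists_generator P hP
  have hcx := centralizer_of_zpowers hxP
  have hCx : centralizer ({x} : Set G) = zpowers x := by
    refine (eq_of_le_of_card_ge (zpowers_le.mpr (mem_centralizer_singleton_iff.mpr rfl)) ?_).symm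
    rw [← hcx, hC, Nat.card_zpowers, hx]
  have hsc : H7.SC3 x := ⟨hx, fun g hg => hCx ▸ mem_centralizer_singleton_iff.mpr hg⟩
  obtain ⟨g, hg, hgC⟩ := SetLike.not_le_iff_exists.mp
    (H30.not_normalizer_le_centralizer hG 3 (hP ▸ card_subgroup_dvd_card (P : Subgroup G)) P)
  have hgx : g * x * g⁻¹ ∈ zpowers x := by
    rw [hxP]
    exact (mem_normalizer_iff.mp hg x).mp (hxP ▸ mem_zpowers x)
  obtain ⟨i, hi⟩ := mem_zpowers_iff.mp hgx
  have h3 : x ^ (3 : ℤ) = 1 := by
    rw [show (3 : ℤ) = ((3 : ℕ) : ℤ) from rfl, zpow_natCast, ← hx, pow_orderOf_eq_one]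
  have key : g * x * g⁻¹ = x⁻¹ := by
    rw [← Int.mul_ediv_add_emod i 3, zpow_add, zpow_mul, h3, one_zpow, one_mul] at hi
    rcases (show i % 3 = 0 ∨ i % 3 = 1 ∨ i % 3 = 2 by omega) with h | h | h <;> rw [h] at hi
    · rw [zpow_zero] at hi
      have : orderOf x = 1 := orderOf_eq_one_iff.mpr (conj_eq_one_iff.mp hi.symm)
      omega
    · rw [zpow_one] at hi
      refine absurd ?_ hgC
      rw [hcx, mem_centralizer_singleton_iff]
      exact (mul_inv_eq_iff_eq_mul.mp hi.symm)
    · rw [← hi, show (2 : ℤ) = 3 + -1 by norm_num, zpow_add, h3, one_mul, zpow_neg_one]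
  exact H7.SC3.simple_cases hsc key

set_option maxHeartbeats 800000 in
/-- The conjugates of `d` in its Sylow subgroup `Q` of order `p ^ 2`: every one commutes with
`(k - 1) * (r - 1)` conjugates outside `Q`, and no conjugate outside `Q` commutes with two. -/
theorem commuting_conjugates_bound {p : ℕ} [hp : Fact p.Prime] {d : G} (hd : orderOf d = p)
    (Q : Sylow p G) (hdQ : d ∈ (Q : Subgroup G)) (hQab : IsMulCommutative (Q : Subgroup G))
    (hQ : Nat.card (Q : Subgroup G) = p ^ 2)
    (hQH : (Q : Subgroup G) ≤ centralizer ({d} : Set G))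
    (hNH : normalizer (zpowers d : Set G) ≤ centralizer ({d} : Set G)) (r k i : ℕ)
    (hk : Nat.card (Sylow p (centralizer ({d} : Set G))) = k)
    (hr : r * Nat.card ↥(normalizer ((Q : Subgroup G) : Set G) ⊓ centralizer ({d} : Set G)) =
      Nat.card (normalizer ((Q : Subgroup G) : Set G)))
    (hi : (centralizer ({d} : Set G)).index = i) :
    r * ((k - 1) * (r - 1)) + r ≤ i := by
  classical
  let _ : Fintype G := Fintype.ofFinite G
  set H := centralizer ({d} : Set G) with hH
  set N := normalizer ((Q : Subgroup G) : Set G) with hN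
  -- the conjugates of `d`
  let f : G ⧸ H → G := Quotient.lift (fun g : G => g * d * g⁻¹) (by
    intro a b hab
    have h : a⁻¹ * b ∈ H := QuotientGroup.leftRel_apply.mp hab
    rw [hH, mem_centralizer_singleton_iff] at h
    calc a * d * a⁻¹ = a * (d * (a⁻¹ * b)) * (a⁻¹ * b)⁻¹ * a⁻¹ := by group
      _ = a * (a⁻¹ * b * d) * (a⁻¹ * b)⁻¹ * a⁻¹ := by rw [h]
      _ = b * d * b⁻¹ := by group)
  set 𝒦 : Finset G := Finset.univ.filter fun g => IsConj d g with h𝒦
  have hKcard : 𝒦.card ≤ i := by
    let _ : Fintype (G ⧸ H) := Fintype.ofFinite _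
    have hsub : 𝒦 ⊆ (Finset.univ : Finset (G ⧸ H)).image f := by
      intro g hg
      obtain ⟨c, hc⟩ := isConj_iff.mp (Finset.mem_filter.mp hg).2
      exact Finset.mem_image.mpr ⟨(c : G ⧸ H), Finset.mem_univ _, hc⟩
    refine (Finset.card_le_card hsub).trans (Finset.card_image_le.trans ?_)
    rw [Finset.card_univ, ← Nat.card_eq_fintype_card, ← index_eq_card, hi]
  -- a conjugate commuting with `d` and equal to a power of it is `d`
  have hpow : ∀ g ∈ 𝒦, g ∈ zpowers d → g = d := by
    intro g hg hgd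
    obtain ⟨c, hc⟩ := isConj_iff.mp (Finset.mem_filter.mp hg).2
    have hcN : c ∈ normalizer (zpowers d : Set G) := by
      refine mem_normalizer_iff.mpr fun y => ?_
      have hmap : (zpowers d).map (MulAut.conj c).toMonoidHom = zpowers d := by
        refine eq_of_le_of_card_ge ?_ ?_
        · rw [MonoidHom.map_zpowers, zpowers_le]
          simpa [MulAut.conj_apply, hc] using hgd
        · exact (Nat.card_congr (equivMapOfInjective _ _ (MulAut.conj c).injective).toEquiv).le
      constructor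
      · intro hy
        rw [← hmap]
        exact ⟨y, hy, by simp [MulAut.conj_apply]⟩
      · intro hy
        rw [← hmap] at hy
        obtain ⟨z, hz, hzy⟩ := hy
        simp only [MulEquiv.coe_toMonoidHom, MulAut.conj_apply] at hzy
        have : z = y := by simpa using hzy
        exact this ▸ hz
    have := mem_centralizer_singleton_iff.mp (hNH hcN)
    rw [← hc, this, mul_inv_cancel_right]
  -- conjugates inside `Q`
  let _ : Fintype (N ⧸ H.subgroupOf N) := Fintype.ofFinite _
  let fN : N ⧸ H.subgroupOf N → G := Quotient.lift (fun g : N => (g : G) * d * (g : G)⁻¹) (by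
    intro a b hab
    have h : a⁻¹ * b ∈ H.subgroupOf N := QuotientGroup.leftRel_apply.mp hab
    rw [mem_subgroupOf, hH, mem_centralizer_singleton_iff] at h
    push_cast at h
    calc (a : G) * d * (a : G)⁻¹
        = a * (d * ((a : G)⁻¹ * b)) * ((a : G)⁻¹ * b)⁻¹ * (a : G)⁻¹ := by group
      _ = a * ((a : G)⁻¹ * b * d) * ((a : G)⁻¹ * b)⁻¹ * (a : G)⁻¹ := by rw [h]
      _ = b * d * (b : G)⁻¹ := by group)
  have hfN : Function.Injective fN := by
    intro a b
    induction a using QuotientGroup.induction_on with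
    | H a =>
      induction b using QuotientGroup.induction_on with
      | H b =>
        intro h
        have h' : (a : G) * d * (a : G)⁻¹ = b * d * (b : G)⁻¹ := h
        refine QuotientGroup.eq.mpr ?_
        rw [mem_subgroupOf, hH, mem_centralizer_singleton_iff]
        push_cast
        calc (a : G)⁻¹ * b * d = (a : G)⁻¹ * (b * d * (b : G)⁻¹) * b := by group
          _ = (a : G)⁻¹ * (a * d * (a : G)⁻¹) * b := by rw [h']
          _ = d * ((a : G)⁻¹ * b) := by group
  set S : Finset G := Finset.univ.image fN with hS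
  have hScard : S.card = r := by
    rw [hS, Finset.card_image_of_injective _ hfN, Finset.card_univ, ← Nat.card_eq_fintype_card,
      ← index_eq_card]
    have h := (H.subgroupOf N).index_mul_card
    have hc : Nat.card (H.subgroupOf N) = Nat.card ↥(N ⊓ H : Subgroup G) := by
      rw [← inf_subgroupOf_right, inf_comm]
      exact Nat.card_congr (subgroupOfEquivOfLe (inf_le_left : N ⊓ H ≤ N)).toEquiv
    rw [hc, ← hr] at h
    exact Nat.eq_of_mul_eq_mul_right Nat.card_pos h
  have hSQ : ∀ g ∈ S, ∃ c ∈ N, g = c * d * c⁻¹ ∧ g ∈ (Q : Subgroup G) := by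
    intro g hg
    obtain ⟨a, -, rfl⟩ := Finset.mem_image.mp hg
    induction a using QuotientGroup.induction_on with
    | H a => exact ⟨a, a.2, rfl, (mem_normalizer_iff.mp a.2 d).mp hdQ⟩
  have hS𝒦 : ∀ g ∈ S, g ∈ 𝒦 := fun g hg => by
    obtain ⟨c, -, hc, -⟩ := hSQ g hg
    exact Finset.mem_filter.mpr ⟨Finset.mem_univ _, isConj_iff.mpr ⟨c, hc.symm⟩⟩
  have hdS : d ∈ S := Finset.mem_image.mpr ⟨((1 : N) : N ⧸ H.subgroupOf N), Finset.mem_univ _,
    show ((1 : N) : G) * d * ((1 : N) : G)⁻¹ = d by simp⟩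
  -- `Q` is determined by two of its conjugates of `d`
  have hgen : ∀ g ∈ 𝒦, g ≠ d → g ∈ (Q : Subgroup G) →
      ∀ R : Subgroup G, d ∈ R → g ∈ R → (Q : Subgroup G) ≤ R := by
    intro g hg hne hgQ R hdR hgR
    have hlt : Nat.card (zpowers d) < Nat.card ↥(zpowers d ⊔ zpowers g) := by
      refine Nat.lt_of_le_of_ne (card_le_of_le le_sup_left) fun h => hne (hpow g hg ?_)
      have h1 := eq_of_le_of_card_ge (le_sup_left : zpowers d ≤ zpowers d ⊔ zpowers g) h.ge
      exact h1 ▸ (le_sup_right : zpowers g ≤ zpowers d ⊔ zpowers g) (mem_zpowers g)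
    have hle : zpowers d ⊔ zpowers g ≤ (Q : Subgroup G) :=
      sup_le (zpowers_le.mpr hdQ) (zpowers_le.mpr hgQ)
    have hdvd := card_dvd_of_le hle
    rw [hQ] at hdvd
    rw [Nat.card_zpowers, hd] at hlt
    obtain ⟨j, hj, hj'⟩ := (Nat.dvd_prime_pow hp.out).mp hdvd
    have : j = 2 := by
      by_contra hne2
      have hj1 : p ^ j ≤ p ^ 1 := Nat.pow_le_pow_right hp.out.pos (by omega)
      rw [pow_one, ← hj'] at hj1
      exact absurd hj1 (not_le.mpr hlt)
    rw [this] at hj'
    rw [← eq_of_le_of_card_ge hle (by rw [hj', hQ])]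
    exact sup_le (zpowers_le.mpr hdR) (zpowers_le.mpr hgR)
  -- the conjugates outside `Q` commuting with `d`
  let A : G → Finset G := fun e => 𝒦.filter fun g => g ∉ (Q : Subgroup G) ∧ Commute g e
  have hAd : (k - 1) * (r - 1) ≤ (A d).card := by
    let _ : Fintype (Sylow p H) := Fintype.ofFinite _
    let Q' : Sylow p H := Q.subtype hQH
    choose c hc using fun R : Sylow p H => exists_smul_eq H Q' R
    let F : Sylow p H × G → G := fun Rs => (c Rs.1 : G) * Rs.2 * (c Rs.1 : G)⁻¹
    have hcd : ∀ R : Sylow p H, (c R : G) * d * (c R : G)⁻¹ = d := fun R => by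
      have := mem_centralizer_singleton_iff.mp (c R).2
      rw [this, mul_inv_cancel_right]
    have hmemR : ∀ (R : Sylow p H) (s : G), s ∈ (Q : Subgroup G) →
        (c R : G) * s * (c R : G)⁻¹ ∈ ((R : Subgroup H).map H.subtype) := by
      intro R s hs
      refine ⟨c R * ⟨s, hQH hs⟩ * (c R)⁻¹, ?_, rfl⟩
      have h1 : (⟨s, hQH hs⟩ : H) ∈ (Q' : Subgroup H) := by
        rw [Sylow.coe_subtype, mem_subgroupOf]
        exact hs
      have h2 : c R * ⟨s, hQH hs⟩ * (c R)⁻¹ ∈ ((c R • Q' : Sylow p H) : Subgroup H) := by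
        rw [Sylow.coe_subgroup_smul]
        exact ⟨_, h1, rfl⟩
      rw [hc R] at h2
      exact h2
    have hRcard : ∀ R : Sylow p H, Nat.card ((R : Subgroup H).map H.subtype) = p ^ 2 := fun R => by
      rw [← Nat.card_congr (equivMapOfInjective _ _ H.subtype_injective).toEquiv,
        ← Nat.card_congr (Sylow.equiv Q' R).toEquiv]
      exact (Nat.card_congr (subgroupOfEquivOfLe hQH).toEquiv).trans hQ
    have hkey : ∀ (R : Sylow p H), ∀ s ∈ S, s ≠ d → F (R, s) ∈ 𝒦 ∧ Commute (F (R, s)) d ∧
        ∀ R' : Subgroup G, Nat.card R' = p ^ 2 → d ∈ R' → F (R, s) ∈ R' →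
          (R : Subgroup H).map H.subtype = R' := by
      intro R s hs hne
      obtain ⟨b, hb, hbs, hsQ⟩ := hSQ s hs
      refine ⟨?_, ?_, fun R' hR' hdR' hFR' => ?_⟩
      · refine Finset.mem_filter.mpr ⟨Finset.mem_univ _, isConj_iff.mpr ⟨(c R : G) * b, ?_⟩⟩
        simp only [F, hbs]; group
      · have h1 : Commute s d := mem_centralizer_singleton_iff.mp (hQH hsQ)
        have h2 := (Commute.conj_iff (c R : G)).mpr h1
        rwa [hcd R] at h2
      · have h1 : (Q : Subgroup G) ≤ R'.map (MulAut.conj (c R : G)⁻¹).toMonoidHom := by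
          refine hgen s (hS𝒦 s hs) hne hsQ _ ⟨d, hdR', ?_⟩ ⟨F (R, s), hFR', ?_⟩
          · simp only [MulEquiv.coe_toMonoidHom, MulAut.conj_apply, inv_inv]
            calc (c R : G)⁻¹ * d * (c R : G)
                = (c R : G)⁻¹ * ((c R : G) * d * (c R : G)⁻¹) * (c R : G) := by rw [hcd R]
              _ = d := by group
          · simp only [F, MulEquiv.coe_toMonoidHom, MulAut.conj_apply, inv_inv]; group
        refine eq_of_le_of_card_ge ?_ (by rw [hRcard R, hR'])
        rintro y ⟨z, hz, rfl⟩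
        rw [← hc R, SetLike.mem_coe, Sylow.coe_subgroup_smul] at hz
        obtain ⟨w, hw, rfl⟩ := hz
        obtain ⟨v, hv, hvw⟩ := h1 (mem_subgroupOf.mp hw)
        simp only [MulEquiv.coe_toMonoidHom, MulAut.conj_apply, inv_inv] at hvw
        have : (c R : G) * (w : G) * (c R : G)⁻¹ = v := by rw [← hvw]; group
        simpa [MulAut.smul_def, MulAut.conj_apply, this] using hv
    have hsub : ((Finset.univ.erase Q') ×ˢ (S.erase d)).image F ⊆ A d := by
      intro g hg
      obtain ⟨⟨R, s⟩, hRs, rfl⟩ := Finset.mem_image.mp hg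
      obtain ⟨hR, hs⟩ := Finset.mem_product.mp hRs
      obtain ⟨hne, hsS⟩ := Finset.mem_erase.mp hs
      obtain ⟨hK, hcomm, huniq⟩ := hkey R s hsS hne
      refine Finset.mem_filter.mpr ⟨hK, fun hFQ => (Finset.mem_erase.mp hR).1 ?_, hcomm⟩
      have h1 := huniq (Q : Subgroup G) hQ hdQ hFQ
      apply Sylow.ext
      apply map_injective H.subtype_injective
      rw [h1, Sylow.coe_subtype, subgroupOf_map_subtype, inf_of_le_left hQH]
    refine le_trans (le_of_eq ?_) (Finset.card_le_card hsub)
    rw [Finset.card_image_of_injOn, Finset.card_product, Finset.card_erase_of_mem (Finset.mem_univ _),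
      Finset.card_erase_of_mem hdS, Finset.card_univ, ← Nat.card_eq_fintype_card, hk, hScard]
    rintro ⟨R, s⟩ hRs ⟨R', s'⟩ hRs' heq
    obtain ⟨-, hs⟩ := Finset.mem_product.mp hRs
    obtain ⟨-, hs'⟩ := Finset.mem_product.mp hRs'
    obtain ⟨hne, hsS⟩ := Finset.mem_erase.mp hs
    obtain ⟨hne', hsS'⟩ := Finset.mem_erase.mp hs'
    have h1 := (hkey R s hsS hne).2.2 ((R' : Subgroup H).map H.subtype) (hRcard R')
      (by simpa [hcd R'] using hmemR R' d hdQ)
      (by
        obtain ⟨-, -, -, hsQ'⟩ := hSQ s' hsS'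
        rw [heq]
        exact hmemR R' s' hsQ')
    have hRR : R = R' := Sylow.ext (map_injective H.subtype_injective h1)
    subst hRR
    simp only [F, mul_left_inj, mul_right_inj] at heq
    rw [heq]
  -- translate to every conjugate in `Q`
  have hAe : ∀ e ∈ S, (k - 1) * (r - 1) ≤ (A e).card := by
    intro e he
    obtain ⟨c, hcN, hce, -⟩ := hSQ e he
    refine hAd.trans ?_
    refine Finset.card_le_card_of_injOn (fun g => c * g * c⁻¹) ?_ ?_
    · intro g hg
      simp only [A, Finset.coe_filter, Set.mem_setOf_eq] at hg ⊢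
      obtain ⟨hgK, hgQ, hgc⟩ := hg
      refine ⟨?_, fun h => hgQ ((mem_normalizer_iff.mp hcN g).mpr h), ?_⟩
      · obtain ⟨b, hb⟩ := isConj_iff.mp (Finset.mem_filter.mp hgK).2
        refine Finset.mem_filter.mpr ⟨Finset.mem_univ _, isConj_iff.mpr ⟨c * b, ?_⟩⟩
        rw [← hb]; group
      · rw [hce]
        exact (Commute.conj_iff c).mpr hgc
    · intro a _ b _ h
      simpa using h
  have hdisj : ∀ e ∈ S, ∀ e' ∈ S, e ≠ e' → Disjoint (A e) (A e') := by
    intro e he e' he' hne
    rw [Finset.disjoint_left]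
    intro g hg hg'
    simp only [A, Finset.mem_filter] at hg hg'
    obtain ⟨hgK, hgQ, hgc⟩ := hg
    obtain ⟨-, -, hgc'⟩ := hg'
    obtain ⟨c, hcN, hce, heQ⟩ := hSQ e he
    obtain ⟨c', hcN', hce', heQ'⟩ := hSQ e' he'
    have hcq : c⁻¹ * e' * c ∈ (Q : Subgroup G) :=
      (mem_normalizer_iff.mp hcN _).mpr (by simpa [mul_assoc] using heQ')
    have hcK : c⁻¹ * e' * c ∈ 𝒦 := Finset.mem_filter.mpr
      ⟨Finset.mem_univ _, isConj_iff.mpr ⟨c⁻¹ * c', by rw [hce']; group⟩⟩
    have hcne : c⁻¹ * e' * c ≠ d := fun h => hne (by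
      rw [hce, ← h]; group)
    have hcen : (Q : Subgroup G) ≤ centralizer ({c⁻¹ * g * c} : Set G) := by
      refine hgen _ hcK hcne hcq _ ?_ ?_
      · rw [mem_centralizer_singleton_iff]
        have := (Commute.conj_iff c⁻¹).mpr hgc
        rw [hce, inv_inv] at this
        simpa [mul_assoc] using this.eq.symm
      · rw [mem_centralizer_singleton_iff]
        have := (Commute.conj_iff c⁻¹).mpr hgc'
        rw [inv_inv] at this
        exact this.eq.symm
    apply hgQ
    obtain ⟨b, hb⟩ := isConj_iff.mp (Finset.mem_filter.mp hgK).2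
    set g' := c⁻¹ * g * c with hg'
    have hgo : orderOf g' = p := by
      rw [← hd, hg', ← hb]
      have h := orderOf_injective (MulAut.conj (c⁻¹ * b)).toMonoidHom (MulAut.conj _).injective d
      simpa [MulAut.conj_apply, mul_assoc] using h
    have hz : IsPGroup p (zpowers g') :=
      IsPGroup.of_card (n := 1) (by rw [Nat.card_zpowers, hgo, pow_one])
    have hnorm : g' ∈ normalizer ((Q : Subgroup G) : Set G) :=
      centralizer_le_normalizer _ (mem_centralizer_iff.mpr fun y hy =>
        mem_centralizer_singleton_iff.mp (hcen hy))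
    have h1 : g' ∈ zpowers g' ⊓ normalizer ((Q : Subgroup G) : Set G) := ⟨mem_zpowers _, hnorm⟩
    have h2 : g' ∈ zpowers g' ⊓ (Q : Subgroup G) := hz.inf_normalizer_sylow Q ▸ h1
    have h3 := (mem_normalizer_iff.mp hcN g').mp h2.2
    simpa [hg', mul_assoc] using h3
  have hsub : (S.biUnion A) ⊆ 𝒦 \ S := by
    intro g hg
    obtain ⟨e, he, hge⟩ := Finset.mem_biUnion.mp hg
    simp only [A, Finset.mem_filter] at hge
    refine Finset.mem_sdiff.mpr ⟨hge.1, fun hgS => hge.2.1 ?_⟩
    obtain ⟨-, -, -, h⟩ := hSQ g hgS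
    exact h
  have hsum : r * ((k - 1) * (r - 1)) ≤ (S.biUnion A).card := by
    rw [Finset.card_biUnion hdisj, ← hScard, ← smul_eq_mul]
    exact Finset.card_nsmul_le_sum S _ _ fun e he => by rw [hScard]; exact hAe e he
  have hle := Finset.card_le_card hsub
  have hS𝒦' : S ⊆ 𝒦 := fun g hg => hS𝒦 g hg
  rw [Finset.card_sdiff_of_subset hS𝒦', hScard] at hle
  have := Finset.card_le_card hS𝒦'
  rw [hScard] at this
  omega

end Cfsg.Agent.H28.Range6232
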