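import Cfsg.Agent.H30.CentralizerTools

/-!
# Elements commuting with an element of prime order, acting on cosets

Tools for excluding orders of simple groups.
-/

set_option autoImplicit false

namespace Cfsg.Agent.H28.Range6232

open Subgroup MulAction

variable {G : Type*} [Group G] [Finite G] [IsSimpleGroup G]

/-- A non-identity element moves some coset of a proper subgroup. -/
theorem exists_moved (H : Subgroup G) (hH : H ≠ ⊤) {g : G} (hg : g ≠ 1) :
    ∃ a : G ⧸ H, g • a ≠ a := by
  by_contra hne
  push Not at hne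
  have hk : g ∈ H.normalCore := by
    rw [normalCore_eq_ker, MonoidHom.mem_ker]
    ext a
    exact hne a
  rcases IsSimpleGroup.eq_bot_or_eq_top_of_normal H.normalCore inferInstance with h | h
  · rw [h, mem_bot] at hk
    exact hg hk
  · exact hH (top_le_iff.mp (h ▸ normalCore_le H))

omit [IsSimpleGroup G] in
/-- An element of order `p` fixes no coset of a subgroup of order prime to `p`. -/
theorem card_fixed_eq_zero (H : Subgroup G) {p : ℕ} {x : G} (hx : orderOf x = p)
    (hp : ¬ p ∣ Nat.card H) : Nat.card (fixedBy (G ⧸ H) x) = 0 := by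
  have : IsEmpty (fixedBy (G ⧸ H) x) := by
    refine ⟨fun ⟨c, hc⟩ => ?_⟩
    induction c using QuotientGroup.induction_on with
    | H g =>
      have hc' : x • (g : G ⧸ H) = g := hc
      rw [MulAction.Quotient.smul_coe, smul_eq_mul] at hc'
      have h2 : g⁻¹ * x * g ∈ H := by
        have := inv_mem (QuotientGroup.eq.mp hc')
        simpa [mul_assoc] using this
      apply hp
      have h3 : orderOf (g⁻¹ * x * g) = p := by
        rw [← hx]
        have := orderOf_injective (MulAut.conj g⁻¹).toMonoidHom (MulAut.conj g⁻¹).injective x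
        simpa [MulAut.conj_apply] using this
      have h4 := orderOf_dvd_natCard (⟨_, h2⟩ : H)
      rwa [Subgroup.orderOf_mk, h3] at h4
  exact Nat.card_of_isEmpty

omit [IsSimpleGroup G] in
/-- An element generating a Sylow subgroup fixes one coset of the normalizer. -/
theorem card_fixed_sylow {p : ℕ} [Fact p.Prime] (P : Sylow p G) {x : G}
    (hx : zpowers x = (P : Subgroup G)) :
    Nat.card (fixedBy (G ⧸ normalizer ((P : Subgroup G) : Set G)) x) = 1 := by
  set N := normalizer ((P : Subgroup G) : Set G) with hN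
  have hxP : x ∈ (P : Subgroup G) := hx ▸ mem_zpowers x
  have h1 : fixedBy (G ⧸ N) x = {((1 : G) : G ⧸ N)} := by
    ext c
    constructor
    · intro hc
      induction c using QuotientGroup.induction_on with
      | H g =>
        have hc' : x • (g : G ⧸ N) = g := hc
        rw [MulAction.Quotient.smul_coe, smul_eq_mul] at hc'
        have h2 : g⁻¹ * x * g ∈ N := by
          have := inv_mem (QuotientGroup.eq.mp hc')
          simpa [mul_assoc] using this
        have hle : ((g⁻¹ • P : Sylow p G) : Subgroup G) ≤ N := by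
          intro y hy
          rw [Sylow.coe_subgroup_smul] at hy
          obtain ⟨z, hz, rfl⟩ := hy
          have hz' : z ∈ zpowers x := hx ▸ hz
          obtain ⟨i, rfl⟩ := mem_zpowers_iff.mp hz'
          have := zpow_mem h2 i
          have hcz := (MulAut.conj g⁻¹).toMonoidHom.map_zpow x i
          simp only [MulEquiv.coe_toMonoidHom, MulAut.conj_apply, inv_inv] at hcz
          simpa [MulAut.conj_apply, hcz] using this
        have h4 : (g⁻¹ • P : Sylow p G) = P := by
          apply Sylow.ext
          have h5 : ((g⁻¹ • P : Sylow p G) : Subgroup G) ≤ (P : Subgroup G) := by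
            have := IsPGroup.inf_normalizer_sylow (g⁻¹ • P : Sylow p G).2 P
            change ((g⁻¹ • P : Sylow p G) : Subgroup G) ⊓ N = _ at this
            rw [inf_eq_left.mpr hle] at this
            exact this.le.trans inf_le_right
          exact ((g⁻¹ • P : Sylow p G).3 P.2 h5).symm
        have h6 := inv_mem (Sylow.smul_eq_iff_mem_normalizer.mp h4)
        rw [inv_inv] at h6
        exact QuotientGroup.eq.mpr (show g⁻¹ * 1 ∈ N from (mul_one g⁻¹).symm ▸ inv_mem h6)
    · intro hc
      rw [Set.mem_singleton_iff] at hc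
      subst hc
      show x • ((1 : G) : G ⧸ N) = _
      rw [MulAction.Quotient.smul_coe, smul_eq_mul, mul_one]
      exact QuotientGroup.eq.mpr (show x⁻¹ * 1 ∈ N from (mul_one x⁻¹).symm ▸ inv_mem (show x ∈ N from Subgroup.le_normalizer hxP))
  rw [Nat.card_coe_set_eq, h1, Set.ncard_singleton]

/-- An element of prime order `q` commuting with an element of prime order `p` that fixes fewer
than `q` cosets of `H` needs `p * q` cosets. -/
theorem commute_fix (H : Subgroup G) (hH : H ≠ ⊤) {p q : ℕ} (hp : p.Prime) (hq : q.Prime)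
    (hpq : p ≠ q) {x w : G} (hx : orderOf x = p) (hw : orderOf w = q) (hc : Commute x w)
    (hfix : Nat.card (fixedBy (G ⧸ H) x) < q) : p * q ≤ H.index := by
  classical
  obtain ⟨a, ha⟩ := exists_moved H hH (g := w) fun h => by
    rw [h, orderOf_one] at hw
    exact hq.one_lt.ne hw
  have := Fact.mk hp
  have := Fact.mk hq
  have hxa : x • a ≠ a := by
    intro hxa
    have hperiod : period w a = q := by
      refine ((Nat.dvd_prime hq).mp (hw ▸ period_dvd_orderOf w a)).resolve_left fun h => ha ?_
      have := pow_period_smul w a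
      rwa [h, pow_one] at this
    have hsub : orbit (zpowers w) a ⊆ fixedBy (G ⧸ H) x := by
      rintro c ⟨⟨v, hv⟩, rfl⟩
      obtain ⟨i, rfl⟩ := mem_zpowers_iff.mp hv
      show x • (w ^ i • a) = w ^ i • a
      rw [smul_smul, (hc.zpow_right i).eq, ← smul_smul, hxa]
    have h1 := Nat.card_mono (Set.toFinite _) hsub
    have h2 : Nat.card (orbit (zpowers w) a) = q := by
      refine (Nat.card_congr (orbitZPowersEquiv w a)).trans ?_
      rw [Nat.card_zmod]
      exact hperiod
    omega
  have hg : orderOf (x * w) = p * q := by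
    rw [hc.orderOf_mul_eq_mul_orderOf_of_coprime
      (by rw [hx, hw]; exact (Nat.coprime_primes hp hq).mpr hpq), hx, hw]
  set d := period (x * w) a with hd
  have hd1 : d ∣ p * q := hg ▸ period_dvd_orderOf (x * w) a
  have hmul : (x * w) ^ d • a = a := pow_period_smul _ _
  have hnp : ¬ d ∣ p := by
    intro h
    obtain ⟨k, hk⟩ := h
    have h' : (x * w) ^ p • a = a := pow_smul_eq_iff_period_dvd.mpr ⟨k, hk⟩
    rw [hc.mul_pow, ← hx, pow_orderOf_eq_one, one_mul, hx] at h'
    have h3 := pow_smul_eq_iff_period_dvd.mp h'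
    have h4 : period w a ∣ q := hw ▸ period_dvd_orderOf w a
    have h5 : period w a = 1 := Nat.eq_one_of_dvd_coprimes ((Nat.coprime_primes hp hq).mpr hpq) h3 h4
    have := pow_period_smul w a
    rw [h5, pow_one] at this
    exact ha this
  have hnq : ¬ d ∣ q := by
    intro h
    obtain ⟨k, hk⟩ := h
    have h' : (x * w) ^ q • a = a := pow_smul_eq_iff_period_dvd.mpr ⟨k, hk⟩
    rw [hc.mul_pow, ← hw, pow_orderOf_eq_one, mul_one, hw] at h'
    have h3 := pow_smul_eq_iff_period_dvd.mp h'
    have h4 : period x a ∣ p := hx ▸ period_dvd_orderOf x a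
    have h5 : period x a = 1 := Nat.eq_one_of_dvd_coprimes ((Nat.coprime_primes hp hq).mpr hpq) h4 h3
    have := pow_period_smul x a
    rw [h5, pow_one] at this
    exact hxa this
  have hdpq : d = p * q := by
    obtain ⟨d1, d2, h1, h2, hd12⟩ := dvd_mul.mp hd1
    rcases (Nat.dvd_prime hp).mp h1 with rfl | rfl <;>
      rcases (Nat.dvd_prime hq).mp h2 with rfl | rfl
    · exact absurd ⟨p, by rw [hd12]; simp⟩ hnp
    · exact absurd ⟨1, by rw [hd12]; simp⟩ hnq
    · exact absurd ⟨1, by rw [hd12]; simp⟩ hnp
    · exact hd12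
  have h6 : Nat.card (orbit (zpowers (x * w)) a) = d := by
    refine (Nat.card_congr (orbitZPowersEquiv (x * w) a)).trans ?_
    rw [Nat.card_zmod]
    rfl
  rw [← hdpq, ← h6, index_eq_card]
  exact Finite.card_subtype_le _

omit [IsSimpleGroup G] in
/-- A permutation of prime power period one: fixed points in an invariant set. -/
theorem card_modEq_fixed {X : Type*} [Finite X] [MulAction G X] {p : ℕ} [Fact p.Prime] {g : G}
    (hg : g ^ p = 1) (S : Set X) (hS : ∀ a ∈ S, g • a ∈ S) :
    S.ncard % p = (S ∩ fixedBy X g).ncard % p := by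
  classical
  let _ : Fintype S := Fintype.ofFinite _
  let f : S → S := fun a => ⟨g • a.1, hS a.1 a.2⟩
  have hf : Function.Injective f := fun a b h =>
    Subtype.ext (MulAction.injective g (congrArg Subtype.val h))
  let σ : Equiv.Perm S := Equiv.ofBijective f ⟨hf, Finite.surjective_of_injective hf⟩
  have hpow : ∀ (k : ℕ) (a : S), ((σ ^ k) a).1 = g ^ k • a.1 := by
    intro k
    induction k with
    | zero => intro a; simp
    | succ k ih =>
      intro a
      rw [pow_succ', pow_succ', Equiv.Perm.mul_apply, mul_smul, ← ih]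
      rfl
  have hσ : σ ^ p ^ 1 = 1 := by
    ext a
    rw [pow_one, hpow, hg, one_smul]
    rfl
  have h := Equiv.Perm.card_compl_support_modEq (p := p) hσ
  have h2 : σ.supportᶜ.card = (S ∩ fixedBy X g).ncard := by
    have h3 : (S ∩ fixedBy X g) = Subtype.val '' (↑(σ.supportᶜ) : Set S) := by
      ext a
      constructor
      · intro ha
        refine ⟨⟨a, ha.1⟩, ?_, rfl⟩
        simp only [Finset.coe_compl, Set.mem_compl_iff, Finset.mem_coe, Equiv.Perm.notMem_support]
        exact Subtype.ext ha.2
      · rintro ⟨⟨b, hb⟩, hb2, rfl⟩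
        simp only [Finset.coe_compl, Set.mem_compl_iff, Finset.mem_coe,
          Equiv.Perm.notMem_support] at hb2
        exact ⟨hb, congrArg Subtype.val hb2⟩
    rw [h3, Set.ncard_image_of_injective _ Subtype.val_injective, Set.ncard_coe_finset]
  rw [h2, ← Nat.card_eq_fintype_card, Nat.card_coe_set_eq] at h
  exact h.symm

/-- An involution commuting with an element `x` of prime order fixing at most one coset. -/
theorem involution_fix (hG : ¬ IsMulCommutative G) (H : Subgroup G) (hH : H ≠ ⊤) {p : ℕ}
    [hp : Fact p.Prime] {x u : G} (hx : orderOf x = p) (hu : orderOf u = 2) (hc : Commute x u)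
    {fx : ℕ} (hfx : Nat.card (fixedBy (G ⧸ H) x) = fx) (h1 : fx ≤ 1) :
    ∃ f, f < H.index ∧ f % 4 = H.index % 4 ∧ f % p = fx ∧ f = Nat.card (fixedBy (G ⧸ H) u) := by
  refine ⟨_, ?_, H30.card_fixedBy_involution_mod_four hG H (hu ▸ pow_orderOf_eq_one u), ?_, rfl⟩
  · rw [H.index_eq_card]
    refine Nat.lt_of_le_of_ne (Finite.card_subtype_le _) fun h => ?_
    obtain ⟨a, ha⟩ := exists_moved H hH (g := u) fun h1 => by
      rw [h1, orderOf_one] at hu; omega
    have := Set.eq_of_subset_of_ncard_le (Set.subset_univ (fixedBy (G ⧸ H) u))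
      (by rw [Set.ncard_univ, ← h, Nat.card_coe_set_eq])
    exact ha (this.symm ▸ Set.mem_univ a : a ∈ fixedBy (G ⧸ H) u)
  · have hmod := card_modEq_fixed (p := p) (g := x) (hx ▸ pow_orderOf_eq_one x)
      (fixedBy (G ⧸ H) u) fun a (ha : u • a = a) => show u • (x • a) = x • a by
        rw [smul_smul, hc.eq.symm, ← smul_smul, ha]
    rw [Nat.card_coe_set_eq, hmod]
    rw [Nat.card_coe_set_eq] at hfx
    have hinter : (fixedBy (G ⧸ H) u ∩ fixedBy (G ⧸ H) x).ncard = fx := by
      rcases Nat.lt_or_ge fx 1 with h0 | h0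
      · have : fixedBy (G ⧸ H) x = ∅ := (Set.ncard_eq_zero (Set.toFinite _)).mp (by omega)
        rw [this, Set.inter_empty, Set.ncard_empty]
        omega
      · obtain ⟨c, hc1⟩ := Set.ncard_eq_one.mp (show (fixedBy (G ⧸ H) x).ncard = 1 by omega)
        have hxc : x • c = c := (show c ∈ fixedBy (G ⧸ H) x from hc1 ▸ Set.mem_singleton c)
        have huc : u • c ∈ fixedBy (G ⧸ H) x := by
          show x • (u • c) = u • c
          rw [smul_smul, hc.eq, ← smul_smul, hxc]
        rw [hc1, Set.mem_singleton_iff] at huc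
        rw [Set.inter_eq_right.mpr (by rw [hc1]; exact Set.singleton_subset_iff.mpr huc)]
        exact hfx
    rw [hinter]
    exact Nat.mod_eq_of_lt (h1.trans_lt hp.out.one_lt)

end Cfsg.Agent.H28.Range6232
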