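import Cfsg.Agent.H28.SmallOrders.Range.Count

/-!
# Helpers for the individual orders
-/

set_option autoImplicit false

namespace Cfsg.Agent.H28.Range6232

open Subgroup MulAction

variable {G : Type*} [Group G] [Finite G]

/-- An element of prime order `q` commuting with a generator of a Sylow subgroup. -/
theorem exists_commuting {p q : ℕ} [hp : Fact p.Prime] [hq : Fact q.Prime] (P : Sylow p G)
    (hP : Nat.card (P : Subgroup G) = p)
    (h : q ∣ Nat.card (centralizer ((P : Subgroup G) : Set G))) :
    ∃ x w : G, orderOf x = p ∧ zpowers x = (P : Subgroup G) ∧ orderOf w = q ∧ Commute x w ∧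
      w ∈ centralizer ((P : Subgroup G) : Set G) := by
  obtain ⟨x, hx, hxP⟩ := exists_generator P hP
  obtain ⟨w, hw⟩ := exists_prime_orderOf_dvd_card' q h
  rw [← Subgroup.orderOf_coe] at hw
  exact ⟨x, w, hx, hxP, hw, mem_centralizer_iff.mp w.2 x (hxP ▸ mem_zpowers x), w.2⟩

variable [IsSimpleGroup G]

/-- No involution commutes with an element of order `p` acting without fixed points on `i`
cosets when the congruences have no solution. -/
theorem no_involution (hG : ¬ IsMulCommutative G) {p : ℕ} [hp : Fact p.Prime] {x u : G}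
    (hx : orderOf x = p) (hu : orderOf u = 2) (hc : Commute x u) (H : Subgroup G) (hH : H ≠ ⊤)
    (hpH : ¬ p ∣ Nat.card H) (i : ℕ) (hi : H.index = i)
    (h : (List.range i).all (fun f => f % 4 != i % 4 || f % p != 0) = true) : False := by
  obtain ⟨f, hf, hf4, hfp, -⟩ := involution_fix hG H hH hx hu hc
    (card_fixed_eq_zero H hx hpH) (Nat.zero_le 1)
  rw [List.all_eq_true] at h
  have := h f (List.mem_range.mpr (hi ▸ hf))
  rw [hi] at hf4
  simp [hf4, hfp] at this

/-- An abelian Sylow subgroup equal to its normalizer is impossible. -/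
theorem normalizer_card_ne (hG : ¬ IsMulCommutative G) {p : ℕ} [hp : Fact p.Prime]
    (Q : Sylow p G) (hQ : Nat.card (Q : Subgroup G) = p ^ 2) :
    Nat.card (normalizer ((Q : Subgroup G) : Set G)) ≠ p ^ 2 := by
  intro h
  have : IsMulCommutative (Q : Subgroup G) := IsPGroup.isMulCommutative_of_card_eq_prime_sq hQ
  have heq : (Q : Subgroup G) = normalizer ((Q : Subgroup G) : Set G) :=
    eq_of_le_of_card_ge le_normalizer (by rw [h, hQ])
  refine H30.not_normalizer_le_centralizer hG p
    ((dvd_pow_self p two_ne_zero).trans (hQ ▸ card_subgroup_dvd_card (Q : Subgroup G))) Q ?_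
  rw [← heq]
  exact le_centralizer _

/-- The centralizer of an element as a proper subgroup: index and order. -/
theorem centralizer_cases (hG : ¬ IsMulCommutative G) {n : ℕ} (hn : Nat.card G = n) {w : G}
    (hw : w ≠ 1) :
    (centralizer ({w} : Set G)) ≠ ⊤ ∧
      (centralizer ({w} : Set G)).index * Nat.card (centralizer ({w} : Set G)) = n ∧
      1 < (centralizer ({w} : Set G)).index ∧
      ((centralizer ({w} : Set G)).index < 40 →
        2 * n ∣ (centralizer ({w} : Set G)).index.factorial) :=
  ⟨centralizer_ne_top hG hw, index_cases hG hn _ (centralizer_ne_top hG hw)⟩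

/-- Possible orders of a proper subgroup divisible by `d`. -/
def subOpts (n d : ℕ) : List (ℕ × ℕ) :=
  ((divs n).filter fun h => h % d == 0 && decide (h < n) &&
      (decide (40 ≤ n / h) || (n / h).factorial % (2 * n) == 0)).map fun h => (h, n / h)

theorem mem_subOpts (hG : ¬ IsMulCommutative G) {n d : ℕ} (hn : Nat.card G = n) (H : Subgroup G)
    (hH : H ≠ ⊤) (hd : d ∣ Nat.card H) : (Nat.card H, H.index) ∈ subOpts n d := by
  obtain ⟨hmul, h1, hfac⟩ := index_cases hG hn H hH
  have hpos : 0 < Nat.card H := Nat.card_pos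
  have hdiv : n / Nat.card H = H.index := by rw [← hmul, Nat.mul_div_cancel _ hpos]
  rw [subOpts, List.mem_map]
  refine ⟨Nat.card H, List.mem_filter.mpr ⟨mem_divs (Nat.mem_divisors.mpr
    ⟨hn ▸ card_subgroup_dvd_card H, by rw [← hn]; exact Nat.card_pos.ne'⟩), ?_⟩, by rw [hdiv]⟩
  simp only [Bool.and_eq_true, decide_eq_true_eq, beq_iff_eq, Bool.or_eq_true, hdiv]
  refine ⟨⟨Nat.mod_eq_zero_of_dvd hd, ?_⟩, ?_⟩
  · rw [← hmul]
    calc Nat.card H = 1 * Nat.card H := (one_mul _).symm
      _ < H.index * Nat.card H := Nat.mul_lt_mul_of_pos_right h1 hpos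
  · rcases Nat.lt_or_ge H.index 40 with h | h
    · exact Or.inr (Nat.mod_eq_zero_of_dvd (hfac h))
    · exact Or.inl h

end Cfsg.Agent.H28.Range6232
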