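import Cfsg.Agent.H28.SmallOrders.Range.Tools

/-!
# Certified option lists for Sylow subgroups
-/

set_option autoImplicit false

namespace Cfsg.Agent.H28.Range6232

open Subgroup

/-- The positive divisors of `m`, as a list. -/
def divs (m : ℕ) : List ℕ := (List.range (m + 1)).filter fun j => decide (0 < j) && m % j == 0

theorem mem_divs {m j : ℕ} (h : j ∈ m.divisors) : j ∈ divs m := by
  obtain ⟨hd, hm⟩ := Nat.mem_divisors.mp h
  have hle := Nat.le_of_dvd (Nat.pos_of_ne_zero hm) hd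
  have hpos : 0 < j := Nat.pos_of_dvd_of_pos hd (Nat.pos_of_ne_zero hm)
  rw [divs, List.mem_filter]
  refine ⟨List.mem_range.mpr (by omega), ?_⟩
  simp [hpos, Nat.mod_eq_zero_of_dvd hd, Nat.dvd_iff_mod_eq_zero.mp hd]

/-- The test for a Sylow number `n` and automizer order `e`. -/
def primeTest (p m n e : ℕ) : Bool :=
  decide (1 < n) && n % p == 1 && decide (1 < e) && m % (n * e) == 0 &&
    (decide (40 ≤ n) || n.factorial % (2 * (p * m)) == 0) &&
    ([2, 3, 5, 7, 11, 13].all fun q =>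
      (m / (n * e)) % q != 0 || q == p || decide (p * q ≤ n)) &&
    ((m / (n * e)) % 2 != 0 || (List.range n).any fun f => f % 4 == n % 4 && f % p == 1)

/-- The possible triples `(n, e, K)`. -/
def primeOpts (p m : ℕ) : List (ℕ × ℕ × ℕ) :=
  (divs m).flatMap fun n =>
    ((divs (p - 1)).filter (primeTest p m n)).map fun e => (n, e, m / (n * e))

theorem mem_primeOpts {G : Type*} [Group G] {p m : ℕ} [hp : Fact p.Prime] (hp2 : p ≠ 2)
    {P : Sylow p G} {n e K : ℕ} (h : PrimeData p m P n e K) : (n, e, K) ∈ primeOpts p m := by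
  obtain ⟨-, hm, hn, hmod, hn1, hfac, he, he1, -, -, hq, h2⟩ := h
  have hne : 0 < n * e := Nat.mul_pos (by omega) (by omega)
  have hdiv : m / (n * e) = K := by
    rw [← hm, ← mul_assoc, Nat.mul_div_cancel_left _ hne]
  have hmod0 : m % (n * e) = 0 := by rw [← hm, ← mul_assoc, Nat.mul_mod_right]
  rw [primeOpts, List.mem_flatMap]
  refine ⟨n, mem_divs hn, List.mem_map.mpr ⟨e, List.mem_filter.mpr
    ⟨mem_divs (Nat.mem_divisors.mpr ⟨he, by have := hp.out.two_le; omega⟩), ?_⟩, by rw [hdiv]⟩⟩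
  simp only [primeTest, hdiv, Bool.and_eq_true, decide_eq_true_eq, beq_iff_eq, Bool.or_eq_true,
    bne_iff_ne, List.all_eq_true, List.any_eq_true, List.mem_range, ne_eq]
  refine ⟨⟨⟨⟨⟨⟨hn1, hmod⟩, he1⟩, hmod0⟩, ?_⟩, ?_⟩, ?_⟩
  · rcases Nat.lt_or_ge n 40 with h | h
    · exact Or.inr (Nat.mod_eq_zero_of_dvd (hfac h))
    · exact Or.inl h
  · intro q hq'
    by_cases hqK : q ∣ K
    · by_cases hqp : q = p
      · exact Or.inl (Or.inr hqp)
      · refine Or.inr (hq q ?_ hqK hqp)
        fin_cases hq' <;> norm_num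
    · exact Or.inl (Or.inl fun h => hqK (Nat.dvd_of_mod_eq_zero h))
  · by_cases h2K : 2 ∣ K
    · obtain ⟨f, hf, hf4, hfp⟩ := h2 h2K hp2
      exact Or.inr ⟨f, hf, hf4, hfp⟩
    · exact Or.inl fun h => h2K (Nat.dvd_of_mod_eq_zero h)

theorem prime_options {G : Type*} [Group G] [Finite G] [IsSimpleGroup G]
    (hG : ¬ IsMulCommutative G) (p m : ℕ) [hp : Fact p.Prime] (hp2 : p ≠ 2)
    (hcard : Nat.card G = p * m) (hm : ¬ p ∣ m) (P : Sylow p G) :
    Nat.card (P : Subgroup G) = p ∧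
      ∃ n e K, (n, e, K) ∈ primeOpts p m ∧ PrimeData p m P n e K := by
  obtain ⟨hP, n, e, K, h⟩ := prime_data hG p m hcard hm P
  exact ⟨hP, n, e, K, mem_primeOpts hp2 h, h⟩

/-- No group if some Sylow subgroup of prime order has no options. -/
theorem false_of_primeOpts_nil {G : Type*} [Group G] [Finite G] [IsSimpleGroup G]
    (hG : ¬ IsMulCommutative G) (p m : ℕ) (hp : p.Prime) (hp2 : p ≠ 2)
    (hcard : Nat.card G = p * m) (hm : ¬ p ∣ m) (hnil : primeOpts p m = []) : False := by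
  have := Fact.mk hp
  obtain ⟨-, n, e, K, hmem, -⟩ := prime_options hG p m hp2 hcard hm (default : Sylow p G)
  rw [hnil] at hmem
  simp at hmem

/-- The possible Sylow numbers. -/
def sylowOpts (p N m : ℕ) : List ℕ :=
  (divs m).filter fun n =>
    decide (1 < n) && n % p == 1 && (decide (40 ≤ n) || n.factorial % (2 * N) == 0)

theorem sylow_options {G : Type*} [Group G] [Finite G] [IsSimpleGroup G]
    (hG : ¬ IsMulCommutative G) (p a m : ℕ) [hp : Fact p.Prime] (hcard : Nat.card G = p ^ a * m)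
    (ha : 0 < a) (hm : ¬ p ∣ m) : Nat.card (Sylow p G) ∈ sylowOpts p (p ^ a * m) m := by
  have hd : p ∣ Nat.card G := hcard ▸ (dvd_pow_self p (by omega)).mul_right m
  have h1 := H30.card_sylow_ne_one hG p hd
  have h2 := H30.two_mul_card_dvd_factorial_sylow hG p hd
  have h3 := H30.card_sylow_dvd hcard hm
  have hpos : 0 < Nat.card (Sylow p G) := Nat.card_pos
  have hmod : Nat.card (Sylow p G) % p = 1 := by
    have := card_sylow_modEq_one p G
    rwa [Nat.ModEq, Nat.mod_eq_of_lt hp.out.one_lt] at this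
  rw [hcard] at h2
  rw [sylowOpts, List.mem_filter]
  refine ⟨mem_divs (Nat.mem_divisors.mpr ⟨h3, fun h => hm (h ▸ dvd_zero p)⟩), ?_⟩
  simp only [Bool.and_eq_true, decide_eq_true_eq, beq_iff_eq, Bool.or_eq_true]
  exact ⟨⟨by omega, hmod⟩, Or.inr (Nat.mod_eq_zero_of_dvd h2)⟩

theorem false_of_sylowOpts_nil {G : Type*} [Group G] [Finite G] [IsSimpleGroup G]
    (hG : ¬ IsMulCommutative G) (p a m : ℕ) (hp : p.Prime) (ha : 0 < a)
    (hcard : Nat.card G = p ^ a * m) (hm : ¬ p ∣ m) (hnil : sylowOpts p (p ^ a * m) m = []) :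
    False := by
  have := Fact.mk hp
  have h := sylow_options hG p a m hcard ha hm
  rw [hnil] at h
  simp at h

end Cfsg.Agent.H28.Range6232
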