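import Cfsg.Agent.H28.SmallOrders.Range.Fix
import Cfsg.Agent.H28.SmallOrders.Order5040Sylow
import Cfsg.Agent.H30.SylowPrimeCases
import Cfsg.Agent.H28.KleinFourSylow
import Cfsg.Agent.H28.CyclicSylow
import Cfsg.Agent.S0985
import Cfsg.Agent.S0992

/-!
# Tools for excluding the orders between 3640 and 6232
-/

set_option autoImplicit false

namespace Cfsg.Agent.H28.Range6232

open Subgroup MulAction
open scoped Pointwise

variable {G : Type*} [Group G] [Finite G] [IsSimpleGroup G]

/-- Index of a proper subgroup in a non-abelian simple group of order `n`. -/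
theorem index_cases (hG : ¬ IsMulCommutative G) {n : ℕ} (hn : Nat.card G = n) (H : Subgroup G)
    (hH : H ≠ ⊤) :
    H.index * Nat.card H = n ∧ 1 < H.index ∧ (H.index < 40 → 2 * n ∣ H.index.factorial) := by
  refine ⟨?_, ?_, fun _ => ?_⟩
  · rw [← hn]; exact H.index_mul_card
  · have h0 := index_ne_zero_of_finite (H := H)
    have h1 : H.index ≠ 1 := fun h => hH (index_eq_one.mp h)
    omega
  · rw [← hn]; exact H30.two_mul_card_dvd_factorial hG H hH

/-- The centralizer of a non-identity element is proper. -/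
theorem centralizer_ne_top (hG : ¬ IsMulCommutative G) {g : G} (hg : g ≠ 1) :
    centralizer ({g} : Set G) ≠ ⊤ := by
  intro h
  have hc : g ∈ center G := mem_center_iff.mpr fun y =>
    (mem_centralizer_singleton_iff.mp (h ▸ mem_top y : y ∈ centralizer ({g} : Set G)))
  rcases IsSimpleGroup.eq_bot_or_eq_top_of_normal (center G) inferInstance with h' | h'
  · rw [h', mem_bot] at hc
    exact hg hc
  · exact hG ⟨⟨fun a b => (mem_center_iff.mp (h'.symm ▸ mem_top b : b ∈ center G) a)⟩⟩

omit [IsSimpleGroup G] in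
/-- A generator of a Sylow subgroup of prime order. -/
theorem exists_generator {p : ℕ} [hp : Fact p.Prime] (P : Sylow p G)
    (hP : Nat.card (P : Subgroup G) = p) :
    ∃ x : G, orderOf x = p ∧ zpowers x = (P : Subgroup G) := by
  obtain ⟨x, hx⟩ := exists_prime_orderOf_dvd_card' (G := (P : Subgroup G)) p (hP.symm ▸ dvd_rfl)
  refine ⟨x, by rw [Subgroup.orderOf_coe, hx], ?_⟩
  refine eq_of_le_of_card_ge (zpowers_le.mpr x.2) ?_
  rw [Nat.card_zpowers, Subgroup.orderOf_coe, hx, hP]

omit [IsSimpleGroup G] in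
theorem centralizer_of_zpowers {H : Subgroup G} {x : G} (h : zpowers x = H) :
    centralizer (H : Set G) = centralizer ({x} : Set G) := by
  rw [← h, zpowers_eq_closure, centralizer_closure]

/-- The data of a Sylow subgroup of prime order `p`: `n` conjugates, automizer of order `e`,
centralizer of order `p * K`. -/
def PrimeData (p m : ℕ) (P : Sylow p G) (n e K : ℕ) : Prop :=
  Nat.card (Sylow p G) = n ∧ n * (e * K) = m ∧ n ∈ m.divisors ∧ n % p = 1 ∧ 1 < n ∧
    (n < 40 → 2 * (p * m) ∣ n.factorial) ∧ e ∣ p - 1 ∧ 1 < e ∧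
    Nat.card (centralizer ((P : Subgroup G) : Set G)) = p * K ∧
    Nat.card (normalizer ((P : Subgroup G) : Set G)) = p * (e * K) ∧
    (∀ q : ℕ, q.Prime → q ∣ K → q ≠ p → p * q ≤ n) ∧
    (2 ∣ K → p ≠ 2 → ∃ f, f < n ∧ f % 4 = n % 4 ∧ f % p = 1)

theorem prime_data (hG : ¬ IsMulCommutative G) (p m : ℕ) [hp : Fact p.Prime]
    (hcard : Nat.card G = p * m) (hm : ¬ p ∣ m) (P : Sylow p G) :
    Nat.card (P : Subgroup G) = p ∧ ∃ n e K, PrimeData p m P n e K := by
  have hP : Nat.card (P : Subgroup G) = p := by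
    simpa using H30.card_sylow_subgroup (a := 1) P (by rw [hcard, pow_one]) hm
  refine ⟨hP, ?_⟩
  obtain ⟨e, K, he, he1, hN, hC⟩ := H30.exists_automizer_of_prime_order hG p P hP
  have hdvd : p ∣ Nat.card G := ⟨m, hcard⟩
  have hne1 := H30.card_sylow_ne_one hG p hdvd
  have hd := H30.card_sylow_dvd (a := 1) (p := p) (G := G) (by rw [hcard, pow_one]) hm
  have hm0 : m ≠ 0 := by rintro rfl; exact hm (dvd_zero p)
  have hpos : 0 < Nat.card (Sylow p G) := Nat.card_pos
  have hmul := H30.card_sylow_mul_normalizer p P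
  rw [hN, hcard] at hmul
  have hmod : Nat.card (Sylow p G) % p = 1 := by
    have := card_sylow_modEq_one p G
    rwa [Nat.ModEq, Nat.mod_eq_of_lt hp.out.one_lt] at this
  set N := normalizer ((P : Subgroup G) : Set G) with hNdef
  have hidx : N.index = Nat.card (Sylow p G) := P.card_eq_index_normalizer.symm
  have hNtop : N ≠ ⊤ := fun h => hne1 (by rw [← hidx, h, index_top])
  obtain ⟨x, hx, hxP⟩ := exists_generator P hP
  have hfix := card_fixed_sylow P hxP
  have hcent := centralizer_of_zpowers hxP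
  refine ⟨_, e, K, rfl, ?_, Nat.mem_divisors.mpr ⟨hd, hm0⟩, hmod, by omega, fun _ => ?_, he, he1,
    hC, by rw [hN]; ring, fun q hq hqK hqp => ?_, fun h2 hp2 => ?_⟩
  · refine Nat.eq_of_mul_eq_mul_left hp.out.pos ?_
    rw [← hmul]; ring
  · have := H30.two_mul_card_dvd_factorial_sylow hG p hdvd
    rwa [hcard] at this
  · have := Fact.mk hq
    obtain ⟨w, hw⟩ := exists_prime_orderOf_dvd_card' (G := centralizer ((P : Subgroup G) : Set G)) q
      (hC ▸ dvd_mul_of_dvd_right hqK p)
    rw [← Subgroup.orderOf_coe] at hw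
    have hw2 : (w : G) ∈ centralizer ({x} : Set G) := hcent ▸ w.2
    rw [← hidx]
    exact commute_fix N hNtop hp.out hq (Ne.symm hqp) hx hw
      ((mem_centralizer_singleton_iff.mp hw2).symm) (by rw [hfix]; exact hq.one_lt)
  · obtain ⟨u, hu⟩ := exists_prime_orderOf_dvd_card' (G := centralizer ((P : Subgroup G) : Set G)) 2
      (hC ▸ dvd_mul_of_dvd_right h2 p)
    rw [← Subgroup.orderOf_coe] at hu
    have hu2 : (u : G) ∈ centralizer ({x} : Set G) := hcent ▸ u.2
    obtain ⟨f, hf, hf4, hfp, -⟩ := involution_fix hG N hNtop hx hu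
      ((mem_centralizer_singleton_iff.mp hu2).symm) hfix le_rfl
    exact ⟨f, hidx ▸ hf, hidx ▸ hf4, hfp⟩

omit [IsSimpleGroup G] in
/-- Commuting elements of prime order are seen from both Sylow subgroups. -/
theorem dual_dvd {p q : ℕ} [hp : Fact p.Prime] [hq : Fact q.Prime] (P : Sylow p G) (Q : Sylow q G)
    (hP : Nat.card (P : Subgroup G) = p) (hQ : Nat.card (Q : Subgroup G) = q)
    (h : q ∣ Nat.card (centralizer ((P : Subgroup G) : Set G))) :
    p ∣ Nat.card (centralizer ((Q : Subgroup G) : Set G)) := by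
  obtain ⟨w, hw⟩ := exists_prime_orderOf_dvd_card' q h
  rw [← Subgroup.orderOf_coe] at hw
  have hzw : IsPGroup q (zpowers (w : G)) :=
    IsPGroup.of_card (n := 1) (by rw [Nat.card_zpowers, hw, pow_one])
  obtain ⟨S, hS⟩ := hzw.exists_le_sylow
  obtain ⟨g, hg⟩ := exists_smul_eq G S Q
  have hS' : Nat.card (S : Subgroup G) = q := (Nat.card_congr (Sylow.equiv S Q).toEquiv).trans hQ
  have hS2 : zpowers (w : G) = (S : Subgroup G) :=
    eq_of_le_of_card_ge hS (by rw [hS', Nat.card_zpowers, hw])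
  have hPS : (P : Subgroup G) ≤ centralizer ((S : Subgroup G) : Set G) := fun y hy => by
    rw [centralizer_of_zpowers hS2, mem_centralizer_singleton_iff]
    exact mem_centralizer_iff.mp w.2 y hy
  have h1 : p ∣ Nat.card (centralizer ((S : Subgroup G) : Set G)) :=
    (dvd_of_eq hP.symm).trans (card_dvd_of_le hPS)
  obtain ⟨y, hy⟩ := exists_prime_orderOf_dvd_card' p h1
  rw [← Subgroup.orderOf_coe] at hy
  have hy' : g * (y : G) * g⁻¹ ∈ centralizer ((Q : Subgroup G) : Set G) := by
    rw [mem_centralizer_iff]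
    intro z hz
    rw [← hg] at hz
    change z ∈ MulAut.conj g • (S : Subgroup G) at hz
    obtain ⟨s, hs, rfl⟩ := hz
    have hc := mem_centralizer_iff.mp y.2 s hs
    simp only [MulDistribMulAction.toMonoidEnd_apply, MulDistribMulAction.toMonoidHom_apply,
      MulAut.smul_def, MulAut.conj_apply]
    calc g * s * g⁻¹ * (g * (y : G) * g⁻¹) = g * (s * (y : G)) * g⁻¹ := by group
      _ = g * ((y : G) * s) * g⁻¹ := by rw [hc]
      _ = g * (y : G) * g⁻¹ * (g * s * g⁻¹) := by group
  have h2 := orderOf_dvd_natCard (⟨_, hy'⟩ : centralizer ((Q : Subgroup G) : Set G))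
  rw [Subgroup.orderOf_mk] at h2
  have h3 : orderOf (g * (y : G) * g⁻¹) = p := by
    rw [← hy]
    have := orderOf_injective (MulAut.conj g).toMonoidHom (MulAut.conj g).injective (y : G)
    simpa [MulAut.conj_apply] using this
  rwa [h3] at h2

omit [IsSimpleGroup G] in
/-- In a group of order twice an odd number the Sylow numbers for odd primes are odd. -/
theorem odd_card_sylow {X : Type*} [Group X] [Finite X] {m p : ℕ} [hp : Fact p.Prime] (hp2 : p ≠ 2)
    (hcard : Nat.card X = 2 * m) (hm : ¬ 2 ∣ m) : ¬ 2 ∣ Nat.card (Sylow p X) := by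
  have : Fact (Nat.Prime 2) := ⟨Nat.prime_two⟩
  let T : Sylow 2 X := default
  have hT : Nat.card (T : Subgroup X) = 2 := by
    simpa using H30.card_sylow_subgroup (a := 1) T (by rw [hcard, pow_one]) hm
  obtain ⟨H, hH⟩ := exists_index_two_of_cyclic_sylow
    (by rw [hcard]; exact ⟨m, by ring⟩) T (isCyclic_of_prime_card hT)
  have : H.Normal := normal_of_index_eq_two hH
  let P : Sylow p X := default
  have hPH : (P : Subgroup X) ≤ H := by
    intro y hy
    by_contra hyH
    obtain ⟨j, hj⟩ := IsPGroup.iff_orderOf.mp P.2 ⟨y, hy⟩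
    rw [Subgroup.orderOf_mk] at hj
    have h2 : y ^ 2 ∈ H := H.sq_mem_of_index_two hH y
    have hodd : Odd (p ^ j) := (hp.out.odd_of_ne_two hp2).pow
    obtain ⟨i, hi⟩ := hodd
    apply hyH
    have h1 : y ^ (p ^ j) ∈ H := by rw [← hj, pow_orderOf_eq_one]; exact one_mem _
    rw [hi, pow_succ, pow_mul] at h1
    exact (mul_mem_cancel_left (pow_mem h2 i)).mp h1
  have hsup := Sylow.normalizer_sup_eq_top (P.subtype hPH)
  rw [Sylow.coe_subtype] at hsup
  rw [subgroupOf_map_subtype, inf_of_le_left hPH] at hsup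
  intro hd
  have hi : Nat.card (Sylow p X) = (normalizer ((P : Subgroup X) : Set X)).index :=
    P.card_eq_index_normalizer
  rw [hi] at hd
  have hmul := (normalizer ((P : Subgroup X) : Set X)).index_mul_card
  obtain ⟨k, hk⟩ := hd
  rw [hcard, hk] at hmul
  have hN : ¬ 2 ∣ Nat.card (normalizer ((P : Subgroup X) : Set X)) := fun ⟨j, hj⟩ => hm
    ⟨k * j, by rw [hj] at hmul; nlinarith⟩
  have hNH : normalizer ((P : Subgroup X) : Set X) ≤ H := by
    intro y hy
    by_contra hyH
    have hd := orderOf_dvd_natCard (⟨y, hy⟩ : normalizer ((P : Subgroup X) : Set X))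
    rw [Subgroup.orderOf_mk] at hd
    have hodd : Odd (orderOf y) := by
      rw [← Nat.not_even_iff_odd, even_iff_two_dvd]
      exact fun h => hN (h.trans hd)
    obtain ⟨i, hi⟩ := hodd
    apply hyH
    have h1 : y ^ orderOf y ∈ H := by rw [pow_orderOf_eq_one]; exact one_mem _
    rw [hi, pow_succ, pow_mul] at h1
    exact (mul_mem_cancel_left (pow_mem (H.sq_mem_of_index_two hH y) i)).mp h1
  rw [sup_of_le_right hNH] at hsup
  rw [hsup, index_top] at hH
  omega

/-- No element of order four when the Sylow 2-subgroups are four-groups. -/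
theorem orderOf_ne_four (hG : ¬ IsMulCommutative G) (h4 : 4 ∣ Nat.card G) (h8 : ¬ 8 ∣ Nat.card G)
    (g : G) : ¬ 4 ∣ orderOf g := by
  intro hg
  have : Fact (Nat.Prime 2) := ⟨Nat.prime_two⟩
  obtain ⟨k, hk⟩ := hg
  have hkpos : 0 < k := by
    have := orderOf_pos g
    rw [hk] at this
    omega
  have hgo : orderOf (g ^ k) = 4 := by
    rw [orderOf_pow' g (by omega), hk, Nat.gcd_eq_right ⟨4, by ring⟩,
      Nat.mul_div_cancel _ hkpos]
  have hz : IsPGroup 2 (zpowers (g ^ k)) :=
    IsPGroup.of_card (n := 2) (by rw [Nat.card_zpowers, hgo]; norm_num)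
  obtain ⟨T, hT⟩ := hz.exists_le_sylow
  have hK := (S0992.result hG (even_iff_two_dvd.mpr ((by norm_num : 2 ∣ 4).trans h4)) h8 T).1
  have h := Monoid.order_dvd_exponent (⟨g ^ k, hT (mem_zpowers _)⟩ : (T : Subgroup G))
  rw [hK.exponent_two, Subgroup.orderOf_mk, hgo] at h
  exact absurd (Nat.le_of_dvd two_pos h) (by norm_num)

/-- With four-group Sylow 2-subgroups the automizer of a Sylow subgroup of prime order has order
not divisible by four. -/
theorem automizer_ne_four (hG : ¬ IsMulCommutative G) (h4 : 4 ∣ Nat.card G) (h8 : ¬ 8 ∣ Nat.card G)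
    {p m n e K : ℕ} [hp : Fact p.Prime] (P : Sylow p G) (hP : Nat.card (P : Subgroup G) = p)
    (hd : PrimeData p m P n e K) : ¬ 4 ∣ e := by
  intro he4
  obtain ⟨-, -, -, -, -, -, -, -, hC, hN, -, -⟩ := hd
  set C := centralizer ((P : Subgroup G) : Set G)
  set N := normalizer ((P : Subgroup G) : Set G)
  have hK : 0 < K := by
    rcases Nat.eq_zero_or_pos K with h | h
    · rw [h, mul_zero] at hC
      exact absurd hC Nat.card_pos.ne'
    · exact h
  let φ : N →* MulAut (P : Subgroup G) := (P : Subgroup G).normalizerMonoidHom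
  have hrange : Nat.card φ.range = e := by
    rw [← index_ker]
    have hk : φ.ker = C.subgroupOf N := (P : Subgroup G).normalizerMonoidHom_ker
    rw [hk]
    have h := (C.subgroupOf N).index_mul_card
    rw [Nat.card_congr (subgroupOfEquivOfLe (H30.centralizer_le_normalizer _ : C ≤ N)).toEquiv,
      hC, hN] at h
    exact Nat.eq_of_mul_eq_mul_right (Nat.mul_pos hp.out.pos hK) (h.trans (by ring))
  have : IsCyclic (P : Subgroup G) := isCyclic_of_prime_card hP
  have : IsCyclic (MulAut (P : Subgroup G)) := by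
    rw [(IsCyclic.mulAutMulEquiv (P : Subgroup G)).isCyclic, hP]
    exact ZMod.isCyclic_units_prime hp.out
  obtain ⟨y, hy⟩ := IsCyclic.exists_ofOrder_eq_natCard (α := φ.range)
  obtain ⟨g, hg⟩ := y.2
  refine orderOf_ne_four hG h4 h8 (g : G) (he4.trans ?_)
  rw [Subgroup.orderOf_coe, ← hrange, ← hy, ← Subgroup.orderOf_coe, ← hg]
  exact orderOf_map_dvd φ g

/-- No element of an abelian Sylow subgroup is central in its normalizer. -/
theorem eq_one_of_central_normalizer (hG : ¬ IsMulCommutative G) {p : ℕ} [hp : Fact p.Prime]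
    (Q : Sylow p G) (hQ : IsMulCommutative (Q : Subgroup G)) {d : G} (hd : d ∈ (Q : Subgroup G))
    (hfix : normalizer ((Q : Subgroup G) : Set G) ≤ centralizer ({d} : Set G)) : d = 1 := by
  by_contra hne
  haveI := hQ
  open scoped IsMulCommutative in
  obtain ⟨f, hf⟩ : ∃ f : G →* (Q : Subgroup G), (f d : G) = d ^ (Q : Subgroup G).index := by
    refine ⟨MonoidHom.transfer (MonoidHom.id (Q : Subgroup G)), ?_⟩
    have key : ∀ (k : ℕ) (g₀ : G), g₀⁻¹ * d ^ k * g₀ ∈ (Q : Subgroup G) →
        g₀⁻¹ * d ^ k * g₀ = d ^ k := by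
      intro k g₀ hk
      obtain ⟨n, hn, he⟩ := Sylow.conj_eq_normalizer_conj_of_mem Q (d ^ k) g₀ (pow_mem hd k) hk
      have hc : Commute d n := (mem_centralizer_singleton_iff.mp (hfix hn)).symm
      rw [he, mul_assoc, (hc.pow_left k).eq, inv_mul_cancel_left]
    rw [MonoidHom.transfer_eq_pow _ d key]
    rfl
  rcases IsSimpleGroup.eq_bot_or_eq_top_of_normal f.ker inferInstance with h | h
  · have hinj := (MonoidHom.ker_eq_bot_iff f).mp h
    exact hG ⟨⟨fun a b => hinj (by rw [map_mul, map_mul]; exact hQ.is_comm.comm _ _)⟩⟩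
  · have h1 : f d = 1 := MonoidHom.mem_ker.mp (h ▸ mem_top d)
    rw [h1, OneMemClass.coe_one] at hf
    obtain ⟨k, hk⟩ := IsPGroup.iff_orderOf.1 Q.2 ⟨d, hd⟩
    rw [Subgroup.orderOf_mk] at hk
    have hdd : orderOf d ∣ (Q : Subgroup G).index := orderOf_dvd_of_pow_eq_one hf.symm
    have hk0 : k ≠ 0 := fun h0 => hne (orderOf_eq_one_iff.1 (by simpa [h0] using hk))
    exact Q.not_dvd_index ((dvd_pow_self p hk0).trans (hk ▸ hdd))

omit [IsSimpleGroup G] in
/-- A subgroup containing two Sylow subgroups. -/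
theorem sylow_count_two {p : ℕ} [hp : Fact p.Prime] (P R : Sylow p G) (hPR : P ≠ R) (H : Subgroup G)
    (hP : (P : Subgroup G) ≤ H) (hR : (R : Subgroup G) ≤ H) :
    ∃ k, k = Nat.card (Sylow p H) ∧ k % p = 1 ∧ 1 < k ∧
      Nat.card H = k * Nat.card ↥(normalizer ((P : Subgroup G) : Set G) ⊓ H) ∧
      k * Nat.card (P : Subgroup G) ∣ Nat.card H := by
  let P' : Sylow p H := P.subtype hP
  let R' : Sylow p H := R.subtype hR
  have hne : P' ≠ R' := fun h => hPR (Sylow.ext (by
    have h1 := congrArg (fun S : Sylow p H => (S : Subgroup H)) h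
    simp only [P', R', Sylow.coe_subtype, subgroupOf_inj, inf_of_le_left hP,
      inf_of_le_left hR] at h1
    exact h1))
  refine ⟨_, rfl, ?_, ?_, ?_, ?_⟩
  · have := card_sylow_modEq_one p H
    rwa [Nat.ModEq, Nat.mod_eq_of_lt hp.out.one_lt] at this
  · have : Nontrivial (Sylow p H) := ⟨P', R', hne⟩
    exact Finite.one_lt_card
  all_goals
    have h2 : normalizer ((P' : Subgroup H) : Set H) =
        (normalizer ((P : Subgroup G) : Set G)).subgroupOf H := by
      rw [Sylow.coe_subtype, ← subgroupOf_normalizer_eq hP]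
    have h3 := (normalizer ((P' : Subgroup H) : Set H)).index_mul_card
    have hi : Nat.card (Sylow p H) = (normalizer ((P' : Subgroup H) : Set H)).index :=
      P'.card_eq_index_normalizer
    rw [← hi, h2, ← inf_subgroupOf_right,
      Nat.card_congr (subgroupOfEquivOfLe (inf_le_right :
        normalizer ((P : Subgroup G) : Set G) ⊓ H ≤ H)).toEquiv] at h3
  · exact h3.symm
  · rw [← h3]
    exact Nat.mul_dvd_mul_left _ (card_dvd_of_le (le_inf le_normalizer hP))

/-- Two Sylow subgroups of order `p ^ 2` meet nontrivially unless the number of them is `1` modulo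
`p ^ 2`; the centralizer of the intersection contains both. -/
theorem exists_common_element {p m : ℕ} [hp : Fact p.Prime] (hcard : Nat.card G = p ^ 2 * m)
    (hm : ¬ p ∣ m) (hmod : Nat.card (Sylow p G) % p ^ 2 ≠ 1) :
    ∃ (d : G) (Q R : Sylow p G), orderOf d = p ∧ d ∈ (Q : Subgroup G) ∧ d ∈ (R : Subgroup G) ∧
      Q ≠ R ∧ IsMulCommutative (Q : Subgroup G) ∧ Nat.card (Q : Subgroup G) = p ^ 2 ∧
      (Q : Subgroup G) ≤ centralizer ({d} : Set G) ∧
      (R : Subgroup G) ≤ centralizer ({d} : Set G) := by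
  have h1 : (1 : ℕ) % p ^ 2 = 1 := Nat.mod_eq_of_lt (Nat.one_lt_pow two_ne_zero hp.out.one_lt)
  obtain ⟨Q, R, hne, hidx⟩ := S0985.result p 2 (G := G) (fun h => hmod (Eq.trans h h1))
  have hQ : ∀ S : Sylow p G, Nat.card (S : Subgroup G) = p ^ 2 :=
    fun S => H30.card_sylow_subgroup S hcard hm
  have hab : ∀ S : Sylow p G, IsMulCommutative (S : Subgroup G) :=
    fun S => IsPGroup.isMulCommutative_of_card_eq_prime_sq (hQ S)
  have hD : p ∣ Nat.card ((R : Subgroup G).subgroupOf (Q : Subgroup G)) := by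
    obtain ⟨i, hi, hci⟩ := (Nat.dvd_prime_pow hp.out).mp
      ((card_subgroup_dvd_card ((R : Subgroup G).subgroupOf (Q : Subgroup G))).trans
        (dvd_of_eq (hQ Q)))
    rw [hci]
    rcases Nat.eq_zero_or_pos i with rfl | h
    · have h := ((R : Subgroup G).subgroupOf (Q : Subgroup G)).index_mul_card
      rw [hci, pow_zero, mul_one, hQ Q] at h
      rw [h, show 2 - 1 = 1 from rfl, pow_one] at hidx
      have := hp.out.one_lt
      nlinarith
    · exact dvd_pow_self p (by omega)
  obtain ⟨d, hd⟩ := exists_prime_orderOf_dvd_card' p hD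
  rw [← Subgroup.orderOf_coe, ← Subgroup.orderOf_coe] at hd
  have key : ∀ S : Sylow p G, ((d : (Q : Subgroup G)) : G) ∈ (S : Subgroup G) →
      (S : Subgroup G) ≤ centralizer ({((d : (Q : Subgroup G)) : G)} : Set G) := fun S hdS y hy => by
    rw [mem_centralizer_singleton_iff]
    exact congrArg Subtype.val ((hab S).is_comm.comm ⟨y, hy⟩ ⟨_, hdS⟩)
  exact ⟨_, Q, R, hd, (d : (Q : Subgroup G)).2, d.2, hne, hab Q, hQ Q,
    key Q (d : (Q : Subgroup G)).2, key R d.2⟩

/-- Two Sylow subgroups of order `p ^ 3` meeting in index `p`: the normalizer of the intersection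
contains both and is proper. -/
theorem exists_intersection_normalizer (hG : ¬ IsMulCommutative G) {p m : ℕ} [hp : Fact p.Prime]
    (hcard : Nat.card G = p ^ 3 * m) (hm : ¬ p ∣ m) (hmod : Nat.card (Sylow p G) % p ^ 2 ≠ 1) :
    ∃ (H : Subgroup G) (Q R : Sylow p G), H ≠ ⊤ ∧ Q ≠ R ∧ Nat.card (Q : Subgroup G) = p ^ 3 ∧
      (Q : Subgroup G) ≤ H ∧ (R : Subgroup G) ≤ H := by
  have h1 : (1 : ℕ) % p ^ 2 = 1 := Nat.mod_eq_of_lt (Nat.one_lt_pow two_ne_zero hp.out.one_lt)
  obtain ⟨Q, R, hne, hidx⟩ := S0985.result p 2 (G := G) (fun h => hmod (Eq.trans h h1))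
  rw [show 2 - 1 = 1 from rfl, pow_one] at hidx
  have hS : ∀ S : Sylow p G, Nat.card (S : Subgroup G) = p ^ 3 :=
    fun S => H30.card_sylow_subgroup S hcard hm
  set D := (Q : Subgroup G) ⊓ (R : Subgroup G) with hD
  have hQR : ¬ (Q : Subgroup G) ≤ R := fun h =>
    hne (Sylow.ext (Q.3 R.2 h).symm)
  have hidxQ : (D.subgroupOf (Q : Subgroup G)).index = p := by
    rw [hD, inf_subgroupOf_left]
    obtain ⟨j, hj⟩ := Q.2.index ((R : Subgroup G).subgroupOf (Q : Subgroup G))
    have hj0 : j ≠ 0 := fun h => hQR (by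
      rw [h, pow_zero, index_eq_one, subgroupOf_eq_top] at hj
      exact hj)
    rw [hj] at hidx ⊢
    have hle : j ≤ 1 := by
      by_contra hgt
      have := Nat.pow_lt_pow_right hp.out.one_lt (Nat.lt_of_not_le hgt)
      rw [pow_one] at this
      omega
    rw [show j = 1 by omega, pow_one]
  have hcardD : Nat.card (D.subgroupOf (Q : Subgroup G)) = p ^ 2 := by
    have h := (D.subgroupOf (Q : Subgroup G)).index_mul_card
    rw [hidxQ, hS Q, pow_succ' p 2] at h
    exact Nat.eq_of_mul_eq_mul_left hp.out.pos h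
  have hDle : ∀ S : Sylow p G, D ≤ (S : Subgroup G) →
      (S : Subgroup G) ≤ normalizer (D : Set G) := fun S hDS => by
    have hidxS : (D.subgroupOf (S : Subgroup G)).index = p := by
      have h := (D.subgroupOf (S : Subgroup G)).index_mul_card
      rw [Nat.card_congr (subgroupOfEquivOfLe hDS).toEquiv,
        ← Nat.card_congr (subgroupOfEquivOfLe (inf_le_left : D ≤ (Q : Subgroup G))).toEquiv,
        hcardD, hS S, pow_succ' p 2] at h
      exact Nat.eq_of_mul_eq_mul_right (pow_pos hp.out.pos 2) h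
    have hn : (D.subgroupOf (S : Subgroup G)).Normal := by
      refine Subgroup.normal_of_index_eq_minFac_card ?_
      rw [hidxS, hS S, hp.out.pow_minFac (by norm_num)]
    exact (normal_subgroupOf_iff_le_normalizer hDS).mp hn
  refine ⟨_, Q, R, ?_, hne, hS Q, hDle Q inf_le_left, hDle R inf_le_right⟩
  refine H30.normalizer_ne_top D ?_ ?_
  · intro h
    rw [h, bot_subgroupOf, card_bot] at hcardD
    exact (Nat.one_lt_pow two_ne_zero hp.out.one_lt).ne hcardD
  · exact H30.sylow_ne_top hG p D (Q.2.to_le inf_le_left)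

/-- The equation of a self-centralising Sylow subgroup of order `p` with automizer of order two. -/
theorem equation_data (hG : ¬ IsMulCommutative G) {p n : ℕ} [hp : Fact p.Prime] (hp5 : 5 ≤ p)
    (hn : Nat.card G = n) (P : Sylow p G) (hP : Nat.card (P : Subgroup G) = p)
    (hC : Nat.card (centralizer ((P : Subgroup G) : Set G)) = p)
    (hN : Nat.card (normalizer ((P : Subgroup G) : Set G)) = p * 2) :
    ∃ x : ℤ, 2 ≤ x.natAbs ∧ (p : ℤ) ∣ x + 1 ∧ x.natAbs ∣ n ∧ (1 - x).natAbs ∣ n ∧
      2 ≤ (1 - x).natAbs ∧ x ^ 2 + ((p - 1) / 2 : ℕ) * (1 - x) ^ 2 < (n : ℤ) ∧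
      ∀ u : G, orderOf u = 2 → ∃ (A : ℤ) (L : ℕ), |A| < |x| ∧
        (n : ℤ) * (x - A) ^ 2 =
          L * (Nat.card (centralizer ({u} : Set G)) : ℤ) ^ 2 * (x * (x - 1)) := by
  let _ : Fintype G := Fintype.ofFinite G
  obtain ⟨z, hz, hCz, hE⟩ := H30.exists_self_centralizing p 2 P hP hC hN
  have hodd : Odd p := hp.out.odd_of_ne_two (by omega)
  obtain ⟨j, hj⟩ := hodd
  have := H30.involution_equation_of_two hG (by omega) hz hCz ((p - 1) / 2) hE (by omega) (by omega)
  rw [hn] at this
  exact this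

end Cfsg.Agent.H28.Range6232
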